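import Groth.Agent.L06.RelProjClosed.Main
import Groth.Agent.L19.ProjBdl.KerSect
import Groth.Agent.L17.Approx.Extend
import Groth.Agent.L04.KSh.Hom
import Groth.Agent.L00.QCAlgModule
import Groth.Agent.L29.DCoh.QCohOps
import Groth.Agent.L20.ModStalk
import Mathlib.AlgebraicGeometry.Morphisms.FinitePresentation

/-!
# Closed subschemes of finite presentation of relative `Proj`: finitely many equations in one degree
-/

set_option autoImplicit false
set_option linter.style.haveILetI false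

noncomputable section

universe u

open CategoryTheory CategoryTheory.Limits AlgebraicGeometry TopologicalSpace Opposite HomogeneousLocalization
open scoped HomogeneousIdeal

namespace Groth.L06.RelProjClosed

open Groth.L18

theorem fg_ker_of_surjective {R C : Type u} [CommRing R] [CommRing C] (f : R →+* C) (hs : Function.Surjective f)
    (hf : f.FinitePresentation) : (RingHom.ker f).FG := by
  letI := f.toAlgebra
  haveI : Algebra.FinitePresentation R C := hf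
  exact Algebra.FinitePresentation.ker_fG_of_surjective (Algebra.ofId R C) hs

/-- The ideal of a finitely presented closed subscheme on an affine chart is finitely generated. -/
theorem pointKer_fg {Z P : Scheme.{u}} (i : Z ⟶ P) [IsClosedImmersion i] [LocallyOfFinitePresentation i]
    {R : CommRingCat.{u}} (e : Spec R ⟶ P) : (PointKer.ker i e).FG := by
  obtain ⟨C₀, a₀, h₀, hpb, hker⟩ := PointKer.exists_univ i e
  have hci : IsClosedImmersion (Spec.map a₀) :=
    MorphismProperty.of_isPullback (P := @IsClosedImmersion) hpb inferInstance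
  have hfp : LocallyOfFinitePresentation (Spec.map a₀) :=
    MorphismProperty.of_isPullback (P := @LocallyOfFinitePresentation) hpb inferInstance
  have hsurj : Function.Surjective a₀.hom := by
    have h1 := (IsClosedImmersion.isAffine_surjective_of_isAffine (Spec.map a₀)).2
    intro c
    obtain ⟨r, hr⟩ := h1 ((Scheme.ΓSpecIso C₀).inv.hom c)
    refine ⟨(Scheme.ΓSpecIso R).hom.hom r, ?_⟩
    have h2 : (Scheme.ΓSpecIso C₀).hom.hom ((Spec.map a₀).appTop.hom r) = a₀.hom ((Scheme.ΓSpecIso R).hom.hom r) :=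
      ConcreteCategory.congr_hom (Scheme.ΓSpecIso_naturality a₀) r
    rw [← h2]
    exact (congrArg _ hr).trans (ConcreteCategory.congr_hom (Scheme.ΓSpecIso C₀).inv_hom_id c)
  have hfp' : a₀.hom.FinitePresentation :=
    (HasRingHomProperty.Spec_iff (P := @LocallyOfFinitePresentation)).1 hfp
  have e1 : PointKer.ker i e = RingHom.ker a₀.hom := Ideal.ext fun q => (hker q).trans RingHom.mem_ker.symm
  rw [e1]
  exact fg_ker_of_surjective _ hsurj hfp'

section algebra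

variable {A σ : Type u} [CommRing A] [SetLike σ A] [AddSubgroupClass σ A] {𝒜 : ℕ → σ} [GradedRing 𝒜]
variable {Z P : Scheme.{u}} (i : Z ⟶ P) [IsAffineHom i] (ε : Proj 𝒜 ⟶ P)

/-- Finitely many homogeneous elements of the vanishing ideal cut out `Z` on one chart. -/
theorem exists_finset_vanish {T : Finset A} (hT : IsFrames 𝒜 T) {e : ℕ} {t : A} (ht : t ∈ 𝒜 e) (he : 0 < e)
    (hfg : (K 𝒜 i ε ht he).FG) :
    ∃ M : ℕ, ∀ n, M ≤ n → ∃ Y : Finset A, (∀ y ∈ Y, y ∈ vanish 𝒜 i ε ∧ y ∈ 𝒜 (n • e)) ∧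
      ∀ {B : Type u} [CommRing B] (g : Away 𝒜 t →+* B),
        (∀ y ∈ Y, ∀ (hy : y ∈ 𝒜 (n • e)), g (Away.mk 𝒜 ht n y hy) = 0) → K 𝒜 i ε ht he ≤ RingHom.ker g := by
  classical
  obtain ⟨G, hG⟩ := hfg
  have hex : ∀ q : G, ∃ (m : ℕ) (a : A) (ha : a ∈ 𝒜 (m • e)),
      Away.mk 𝒜 ht m a ha = q.1 ∧ a ∈ vanish 𝒜 i ε := by
    intro q
    obtain ⟨m, a, ha, hq⟩ := Away.mk_surjective 𝒜 ht q.1
    obtain ⟨N, hN⟩ := exists_pow_mul_mem_vanish i ε hT ht he ha (by rw [hq, ← hG]; exact Ideal.subset_span q.2)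
    have hmem : t ^ N * a ∈ 𝒜 ((N + m) • e) := by rw [add_smul]; exact pow_mul_mem 𝒜 ht ha N
    exact ⟨N + m, _, hmem, (mk_shift 𝒜 ht ha N hmem).trans hq, hN⟩
  choose m a ha hqa hv using hex
  refine ⟨Finset.univ.sup m, fun n hn => ⟨Finset.univ.image fun q => t ^ (n - m q) * a q, ?_, ?_⟩⟩
  · intro y hy
    obtain ⟨q, -, rfl⟩ := Finset.mem_image.1 hy
    refine ⟨Ideal.mul_mem_left _ _ (hv q), ?_⟩
    have h1 := pow_mul_mem 𝒜 ht (ha q) (n - m q)
    rwa [← add_smul, Nat.sub_add_cancel ((Finset.le_sup (Finset.mem_univ q)).trans hn)] at h1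
  · intro B _ g hg
    rw [← hG, Ideal.span_le]
    intro q hq
    have hmem : t ^ (n - m ⟨q, hq⟩) * a ⟨q, hq⟩ ∈ 𝒜 ((n - m ⟨q, hq⟩ + m ⟨q, hq⟩) • e) := by
      rw [add_smul]; exact pow_mul_mem 𝒜 ht (ha _) _
    have hle : m ⟨q, hq⟩ ≤ n := (Finset.le_sup (Finset.mem_univ _)).trans hn
    have h2 := hg _ (Finset.mem_image_of_mem _ (Finset.mem_univ ⟨q, hq⟩)) (by rwa [Nat.sub_add_cancel hle] at hmem)
    show g q = 0
    rw [← (show _ = q from hqa ⟨q, hq⟩), ← mk_shift 𝒜 ht (ha _) (n - m ⟨q, hq⟩) hmem]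
    convert h2 using 3
    omega

/-- A numerator in the kernel of a chart map of a graded quotient lies in the ideal up to a power of the frame. -/
theorem exists_pow_mul_mem_of_map_eq_zero {R : Type u} [CommRing R] {t : R} (I : Ideal R) {a : R}
    (h : algebraMap (R ⧸ I) (Localization.Away (Ideal.Quotient.mk I t)) (Ideal.Quotient.mk I a) = 0) :
    ∃ N, t ^ N * a ∈ I := by
  obtain ⟨⟨_, N, rfl⟩, hN⟩ := (IsLocalization.map_eq_zero_iff (Submonoid.powers (Ideal.Quotient.mk I t)) _ _).1 h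
  refine ⟨N, Ideal.Quotient.eq_zero_iff_mem.1 ?_⟩
  rw [map_mul, map_pow]
  exact hN

/-- The map from a chart to the localized quotient. -/
def awayToQuot (t : A) (I : Ideal A) : Away 𝒜 t →+* Localization.Away (Ideal.Quotient.mk I t) :=
  (Localization.awayLift ((algebraMap (A ⧸ I) (Localization.Away (Ideal.Quotient.mk I t))).comp (Ideal.Quotient.mk I)) t
    (IsLocalization.Away.algebraMap_isUnit (S := Localization.Away (Ideal.Quotient.mk I t)) (Ideal.Quotient.mk I t))).comp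
      (algebraMap (Away 𝒜 t) (Localization (Submonoid.powers t)))

theorem awayToQuot_mk_eq_zero_iff {t : A} {e : ℕ} (ht : t ∈ 𝒜 e) (I : Ideal A) {m : ℕ} {a : A}
    (ha : a ∈ 𝒜 (m • e)) :
    awayToQuot t I (Away.mk 𝒜 ht m a ha) = 0 ↔
      algebraMap (A ⧸ I) (Localization.Away (Ideal.Quotient.mk I t)) (Ideal.Quotient.mk I a) = 0 := by
  let f := (algebraMap (A ⧸ I) (Localization.Away (Ideal.Quotient.mk I t))).comp (Ideal.Quotient.mk I)
  have hu : IsUnit (f t) :=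
    IsLocalization.Away.algebraMap_isUnit (S := Localization.Away (Ideal.Quotient.mk I t)) (Ideal.Quotient.mk I t)
  let l : Localization (Submonoid.powers t) →+* Localization.Away (Ideal.Quotient.mk I t) :=
    Localization.awayLift f t hu
  have hl : ∀ b : A, l (algebraMap A _ b) = f b := fun b => IsLocalization.Away.lift_eq t hu b
  have hmul : (Away.mk 𝒜 ht m a ha).val * algebraMap A (Localization (Submonoid.powers t)) (t ^ m) = algebraMap A _ a := by
    rw [Away.val_mk, Localization.mk_eq_mk']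
    exact IsLocalization.mk'_spec (Localization (Submonoid.powers t)) a (⟨t ^ m, m, rfl⟩ : Submonoid.powers t)
  have key : l (Away.mk 𝒜 ht m a ha).val * f (t ^ m) = f a := by
    rw [← hl, ← hl, ← map_mul, hmul]
  have hunit : IsUnit (f (t ^ m)) := by rw [map_pow]; exact hu.pow m
  show l (Away.mk 𝒜 ht m a ha).val = 0 ↔ f a = 0
  rw [← key, hunit.mul_left_eq_zero]

omit [IsAffineHom i] in
/-- An ideal containing the numerators of a family generating `K` recovers all of `K`. -/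
theorem exists_pow_mul_mem_of_family (I : Ideal A) {e : ℕ} {t : A} (ht : t ∈ 𝒜 e) (he : 0 < e) {n : ℕ}
    {Y : Finset A} (_hYn : ∀ y ∈ Y, y ∈ 𝒜 (n • e))
    (hY : ∀ {B : Type u} [CommRing B] (g : Away 𝒜 t →+* B),
      (∀ y ∈ Y, ∀ (hy : y ∈ 𝒜 (n • e)), g (Away.mk 𝒜 ht n y hy) = 0) → K 𝒜 i ε ht he ≤ RingHom.ker g)
    (hI : ∀ y ∈ Y, y ∈ I) {m : ℕ} {a : A} (ha : a ∈ 𝒜 (m • e))
    (h : Away.mk 𝒜 ht m a ha ∈ K 𝒜 i ε ht he) : ∃ N, t ^ N * a ∈ I := by
  refine exists_pow_mul_mem_of_map_eq_zero I ((awayToQuot_mk_eq_zero_iff ht I ha).1 ?_)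
  refine hY (awayToQuot t I) (fun y hy hy' => (awayToQuot_mk_eq_zero_iff ht I hy').2 ?_) h
  rw [Ideal.Quotient.eq_zero_iff_mem.2 (hI y hy), map_zero]

end algebra

variable {S : Scheme.{u}} (𝒮 : RelProj.QCGrAlg S)

/-- The component of a given degree. -/
def degPart (U : S.Opens) (hU : IsAffineOpen U) (d : ℕ) (x : 𝒮.presheaf.obj (op U)) : 𝒮.presheaf.obj (op U) :=
  (DirectSum.decompose (𝒮.deg U hU) x d : 𝒮.presheaf.obj (op U))

theorem degPart_mem (U : S.Opens) (hU : IsAffineOpen U) (d : ℕ) (x : 𝒮.presheaf.obj (op U)) :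
    degPart 𝒮 U hU d x ∈ 𝒮.deg U hU d :=
  SetLike.coe_mem _

theorem degPart_of_mem (U : S.Opens) (hU : IsAffineOpen U) {d : ℕ} {x : 𝒮.presheaf.obj (op U)}
    (hx : x ∈ 𝒮.deg U hU d) : degPart 𝒮 U hU d x = x :=
  DirectSum.decompose_of_mem_same _ hx

theorem degPart_add (U : S.Opens) (hU : IsAffineOpen U) (d : ℕ) (x y : 𝒮.presheaf.obj (op U)) :
    degPart 𝒮 U hU d (x + y) = degPart 𝒮 U hU d x + degPart 𝒮 U hU d y := by
  rw [degPart, DirectSum.decompose_add, DirectSum.add_apply, AddMemClass.coe_add]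
  rfl

theorem degPart_str_mul (U : S.Opens) (hU : IsAffineOpen U) (d : ℕ) (r : Γ(S, U)) (x : 𝒮.presheaf.obj (op U)) :
    degPart 𝒮 U hU d ((𝒮.str.app (op U)).hom r * x) = (𝒮.str.app (op U)).hom r * degPart 𝒮 U hU d x :=
  DirectSum.coe_decompose_mul_of_left_mem_zero (𝒮.deg U hU) (𝒮.str_mem U hU r)

theorem degPart_res {U V : S.Opens} (hU : IsAffineOpen U) (hV : IsAffineOpen V) (h : V ≤ U) (d : ℕ)
    (x : 𝒮.presheaf.obj (op U)) :
    degPart 𝒮 V hV d ((𝒮.presheaf.map (homOfLE h).op).hom x) =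
      (𝒮.presheaf.map (homOfLE h).op).hom (degPart 𝒮 U hU d x) := by
  show degPart 𝒮 V hV d (𝒮.res hU hV h x) = 𝒮.res hU hV h (degPart 𝒮 U hU d x)
  unfold degPart
  rw [GradedRingHom.map_directSumDecompose]

/-- The component of a given degree as a map of modules. -/
theorem exists_proj (d : ℕ) : ∃ π : 𝒮.toModule ⟶ 𝒮.toModule, ∀ (U : S.Opens) (hU : IsAffineOpen U)
    (x : Γ(𝒮.toModule, U)), (π.app U x : 𝒮.presheaf.obj (op U)) = degPart 𝒮 U hU d x := by
  obtain ⟨π, hπ⟩ := Groth.L04.KSh.exists_hom_affine (M := 𝒮.toModule) (N := 𝒮.toModule)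
    (fun U => { toFun := fun x => degPart 𝒮 U.1 U.2 d x
                map_add' := fun x y => degPart_add 𝒮 U.1 U.2 d x y
                map_smul' := fun r x => degPart_str_mul 𝒮 U.1 U.2 d r x })
    fun U V h s => degPart_res 𝒮 U.2 V.2 h d s
  exact ⟨π, fun U hU x => hπ ⟨U, hU⟩ x⟩

variable {𝒮}

/-- The family of ideals generated by the image of a module in one degree. -/
def spanFamily {F : S.Modules} [Coh.IsQCoh F] (ι : F ⟶ 𝒮.toModule) {d : ℕ}
    (hdeg : ∀ (U : S.Opens) (hU : IsAffineOpen U) (x : Γ(F, U)), (ι.app U) x ∈ 𝒮.deg U hU d) : IdealFamily 𝒮 where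
  id U _ := Ideal.span (Set.range (ι.app U) : Set (𝒮.presheaf.obj (op U)))
  hom U hU x hx k := Ideal.homogeneous_span (𝒮.deg U hU) _
    (by rintro _ ⟨y, rfl⟩; exact ⟨d, hdeg U hU y⟩) k hx
  res {U V} hU hV j x hx := by
    refine (Ideal.map_span _ _).trans_le (Ideal.span_le.2 ?_) (Ideal.mem_map_of_mem _ hx)
    rintro _ ⟨_, ⟨y, rfl⟩, rfl⟩
    exact Ideal.subset_span ⟨F.presheaf.map (homOfLE j).op y,
      ConcreteCategory.congr_hom ((Scheme.Modules.Hom.mapPresheaf ι).naturality (homOfLE j).op) y⟩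
  pow U hU r x hx := by
    let ρ : 𝒮.presheaf.obj (op U) →+* 𝒮.presheaf.obj (op (S.basicOpen r)) :=
      (𝒮.presheaf.map (homOfLE (S.basicOpen_le r)).op).hom
    let c := (𝒮.str.app (op U)).hom r
    letI : Algebra (𝒮.presheaf.obj (op U)) (𝒮.presheaf.obj (op (S.basicOpen r))) := ρ.toAlgebra
    haveI : IsLocalization.Away c (𝒮.presheaf.obj (op (S.basicOpen r))) := 𝒮.isQC U hU r
    have hle : Ideal.span (Set.range (ι.app (S.basicOpen r)) : Set (𝒮.presheaf.obj (op (S.basicOpen r)))) ≤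
        (Ideal.span (Set.range (ι.app U) : Set (𝒮.presheaf.obj (op U)))).map ρ := by
      rw [Ideal.span_le]
      rintro _ ⟨y, rfl⟩
      letI := Module.compHom Γ(F, S.basicOpen r) (S.presheaf.map (homOfLE (S.basicOpen_le r)).op).hom
      haveI := Groth.L20.ModStalk.isLocalizedModule_res F hU r
      obtain ⟨⟨s, ⟨_, n, rfl⟩⟩, hs⟩ := IsLocalizedModule.surj (Submonoid.powers r)
        ({ toFun := fun s => Groth.L18.Frame.rs F (S.basicOpen_le r) s
           map_add' := fun a b => map_add _ a b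
           map_smul' := fun a s => Groth.L18.Frame.rs_smul F (S.basicOpen_le r) a s } :
          Γ(F, U) →ₗ[Γ(S, U)] Γ(F, S.basicOpen r)) y
      refine (Ideal.unit_mul_mem_iff_mem _ (y := ρ (c ^ n))
        (IsLocalization.map_units (M := Submonoid.powers c) (𝒮.presheaf.obj (op (S.basicOpen r))) ⟨c ^ n, n, rfl⟩)).1 ?_
      have h1 : ρ (c ^ n) * (show 𝒮.presheaf.obj (op (S.basicOpen r)) from ι.app _ y) = ρ (ι.app U s) := by
        have h2 : ρ (c ^ n) = (𝒮.str.app (op (S.basicOpen r))).hom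
            ((S.presheaf.map (homOfLE (S.basicOpen_le r)).op).hom (r ^ n)) := by
          rw [← map_pow]
          exact (ConcreteCategory.congr_hom (𝒮.str.naturality (homOfLE (S.basicOpen_le r)).op) (r ^ n)).symm
        rw [h2]
        refine Eq.trans ?_ ((congrArg (ι.app (S.basicOpen r)) hs).trans
          (ConcreteCategory.congr_hom ((Scheme.Modules.Hom.mapPresheaf ι).naturality (homOfLE (S.basicOpen_le r)).op) s))
        exact (Scheme.Modules.Hom.app_smul ι _ y).symm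
      rw [h1]
      exact Ideal.mem_map_of_mem ρ (Ideal.subset_span ⟨s, rfl⟩)
    obtain ⟨_, ⟨N, rfl⟩, hN⟩ := (IsLocalization.algebraMap_mem_map_algebraMap_iff (Submonoid.powers c)
      (𝒮.presheaf.obj (op (S.basicOpen r))) _ _).1 (hle hx)
    exact ⟨N, hN⟩

theorem exists_mem_range_awayι {A σ : Type u} [CommRing A] [SetLike σ A] [AddSubgroupClass σ A] {𝒜 : ℕ → σ}
    [GradedRing 𝒜] {T : Finset A} (hT : IsFrames 𝒜 T) (v : Proj 𝒜) :
    ∃ t ∈ T, ∃ (e : ℕ) (ht : t ∈ 𝒜 e) (he : 0 < e), v ∈ (Proj.awayι 𝒜 t ht he).opensRange := by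
  obtain ⟨t, htT, htv⟩ := exists_notMem_of_isFrames hT v
  obtain ⟨e, he, ht⟩ := hT.1 t htT
  exact ⟨t, htT, e, ht, he, (Proj.opensRange_awayι 𝒜 t ht he).ge ((Proj.mem_basicOpen _ _ _).2 htv)⟩

variable {P Z : Scheme.{u}} {p : P ⟶ S}
  {chart : ∀ (U : S.Opens) (hU : IsAffineOpen U), (((p ⁻¹ᵁ U : P.Opens) : Scheme.{u}) ≅ Proj (𝒮.deg U hU))}

/-- The degree `d` part of the vanishing ideal as a quasi-coherent module. -/
theorem exists_degree_module (F₁ : IdealFamily 𝒮) (d : ℕ) :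
    ∃ (G : S.Modules) (γ : G ⟶ 𝒮.toModule), Coh.IsQCoh G ∧ Mono γ ∧
      (∀ (U : S.Opens) (hU : IsAffineOpen U) (x : Γ(G, U)),
        (γ.app U x : 𝒮.presheaf.obj (op U)) ∈ F₁.id U hU ∧
          (γ.app U x : 𝒮.presheaf.obj (op U)) ∈ 𝒮.deg U hU d) ∧
      ∀ (U : S.Opens) (hU : IsAffineOpen U) (a : 𝒮.presheaf.obj (op U)), a ∈ F₁.id U hU → a ∈ 𝒮.deg U hU d →
        a ∈ Set.range (γ.app U) := by
  obtain ⟨π, hπ⟩ := exists_proj 𝒮 d
  let q : 𝒮.toModule ⟶ F₁.qGr.toQCAlg.toModule := RelSpec.QCAlg.Hom.toModuleMap F₁.qHom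
  have hA : Coh.IsQCoh 𝒮.toModule := Groth.L00.QCAlgModule.isQCoh_toModule 𝒮.toQCAlg
  have hB : Coh.IsQCoh F₁.qGr.toQCAlg.toModule := Groth.L00.QCAlgModule.isQCoh_toModule F₁.qGr.toQCAlg
  have hq : ∀ (U : S.Opens) (hU : IsAffineOpen U) (x : Γ(𝒮.toModule, U)),
      q.app U x = 0 ↔ (x : 𝒮.presheaf.obj (op U)) ∈ F₁.id U hU := fun U hU x =>
    (iff_of_eq (congrArg (· = 0) (F₁.qHom_app hU x))).trans (F₁.qπ_eq_zero hU x)
  let ν : kernel q ⟶ 𝒮.toModule := kernel.ι q ≫ (π - 𝟙 _)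
  have hν : ∀ (U : S.Opens) (x : Γ(kernel q, U)),
      ν.app U x = π.app U ((kernel.ι q).app U x) - (kernel.ι q).app U x := fun U x => rfl
  refine ⟨kernel ν, kernel.ι ν ≫ kernel.ι q, ?_, inferInstance, fun U hU x => ?_, fun U hU a ha had => ?_⟩
  · exact Groth.L29.DC.isQCoh_kernel' ν (Groth.L29.DC.isQCoh_kernel' q hA hB) hA
  · let y := (kernel.ι ν).app U x
    refine ⟨(hq U hU _).1 (Groth.L19.ProjBdl.app_ι_kernel q U y), ?_⟩
    have h1 := sub_eq_zero.1 ((hν U y).symm.trans (Groth.L19.ProjBdl.app_ι_kernel ν U x))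
    exact Eq.mp (congrArg (· ∈ 𝒮.deg U hU d) ((hπ U hU _).symm.trans h1)) (degPart_mem _ _ _ _ _)
  · obtain ⟨y, hy⟩ := Groth.L19.ProjBdl.exists_kernel_app q U (s := a) ((hq U hU a).2 ha)
    have hy0 : ν.app U y = 0 := by
      refine (hν U y).trans (sub_eq_zero.2 ?_)
      rw [hy]
      exact (hπ U hU a).trans (degPart_of_mem 𝒮 U hU had)
    obtain ⟨x, hx⟩ := Groth.L19.ProjBdl.exists_kernel_app ν U hy0
    exact ⟨x, (congrArg ((kernel.ι q).app U) hx).trans hy⟩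

variable (i : Z ⟶ P) [IsClosedImmersion i] [LocallyOfFinitePresentation i] (hP : RelProj.IsRelProj 𝒮 p chart)
  [QuasiCompact p]

include hP in
/-- Finitely many equations of one degree, containing prescribed sections of the vanishing ideal. -/
theorem exists_fp [CompactSpace S] [QuasiSeparatedSpace S] {α : Type u} [Finite α] (V : α → S.Opens)
    (hV : ∀ k, IsAffineOpen (V k)) (X : ℕ → ∀ k : α, Finset (𝒮.presheaf.obj (op (V k))))
    (hX : ∀ d k x, x ∈ X d k → 0 < d → x ∈ I chart i (V k) (hV k) ∧ x ∈ 𝒮.deg (V k) (hV k) d) :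
    ∃ (d : ℕ) (_ : 0 < d) (F : S.Modules) (_ : Coh.IsQCoh F) (_ : CohB1.IsFT F) (ι : F ⟶ 𝒮.toModule)
      (_ : Mono ι)
      (_ : ∀ (U : S.Opens) (hU : IsAffineOpen U) (x : Γ(F, U)), (ι.app U) x ∈ 𝒮.deg U hU d)
      (ℬ : RelProj.QCGrAlg S) (φ : 𝒮.toQCAlg ⟶ ℬ.toQCAlg) (hφ : RelProj.IsGradedHom φ) (PB : Scheme.{u})
      (pB : PB ⟶ S) (chartB : ∀ (U : S.Opens) (hU : IsAffineOpen U), (((pB ⁻¹ᵁ U : PB.Opens) : Scheme.{u}) ≅ Proj (ℬ.deg U hU)))
      (h : PB ⟶ P) (e : PB ≅ Z),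
      (∀ k, ∀ x ∈ X d k, x ∈ Set.range (ι.app (V k))) ∧
      (∀ (U : S.Opens), IsAffineOpen U → Function.Surjective (φ.hom.app (op U)).hom ∧
          RingHom.ker (φ.hom.app (op U)).hom = (Ideal.span (Set.range (ι.app U)) : Ideal (𝒮.presheaf.obj (op U)))) ∧
        RelProj.IsRelProj ℬ pB chartB ∧ RelProj.IsProjQMap (RelProj.QGrHom.ofHom φ hφ) p chart pB chartB h ∧
        e.hom ≫ i = h := by
  classical
  obtain ⟨C, hC⟩ := isCompact_univ.elim_finite_subcover (fun U : S.affineOpens => (U.1 : Set S))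
    (fun U => U.1.2) (fun y _ => by
      obtain ⟨_, ⟨U, hU, rfl⟩, hyU, -⟩ :=
        S.isBasis_affineOpens.exists_subset_of_mem_open (Set.mem_univ y) isOpen_univ
      exact Set.mem_iUnion.2 ⟨⟨U, hU⟩, hyU⟩)
  let Uo : C → S.Opens := fun U => U.1.1
  have hUo : ∀ c, IsAffineOpen (Uo c) := fun c => c.1.2
  choose T hT using fun c : C => exists_frames (𝒮 := 𝒮) chart (Uo c) (hUo c)
  let ξ := Σ U : C, T U
  choose e he ht using fun s : ξ => (hT s.1).1 s.2.1 s.2.2
  choose M hM using fun s : ξ => exists_finset_vanish i (RelProj.emb p chart (Uo s.1) (hUo s.1)) (hT s.1) (ht s) (he s)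
    (pointKer_fg i _)
  haveI : Fintype ξ := inferInstanceAs (Fintype (Σ U : C, T U))
  let D := ∏ s, e s
  let d := D * (Finset.univ.sup M + 1)
  have hd : 0 < d := Nat.mul_pos (Finset.prod_pos fun s _ => he s) (Nat.succ_pos _)
  have hn : ∀ s, ∃ n, M s ≤ n ∧ n • e s = d := fun s => by
    obtain ⟨c, hc⟩ := Finset.dvd_prod_of_mem e (Finset.mem_univ s)
    refine ⟨c * (Finset.univ.sup M + 1), ?_, ?_⟩
    · have h1 : M s ≤ Finset.univ.sup M + 1 := (Finset.le_sup (Finset.mem_univ s)).trans (Nat.le_succ _)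
      refine h1.trans (Nat.le_mul_of_pos_left _ (Nat.pos_of_ne_zero fun hc0 => ?_))
      subst hc0
      exact (Finset.prod_pos fun s _ => he s).ne' (hc.trans (mul_zero _))
    · show c * _ * e s = D * _
      rw [show D = e s * c from hc]
      ring
  choose n hMn hne using hn
  choose Y hY hYK using fun s => hM s (n s) (hMn s)
  obtain ⟨G, γ, hG, hγmono, hγ, hγ'⟩ := exists_degree_module (vanishFamily i hP) d
  haveI := hG
  haveI := hγmono
  let W : ξ ⊕ α → S.Opens := Sum.elim (fun s => Uo s.1) V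
  let Idx : ξ ⊕ α → Type u := fun w => match w with
    | .inl s => Y s
    | .inr k => X d k
  haveI : ∀ w, Finite (Idx w) := fun w => by cases w <;> (simp only [Idx]; infer_instance)
  have hlift : ∀ w (q : Idx w), ∃ g : Γ(G, W w), (γ.app (W w) g : 𝒮.presheaf.obj (op (W w))) =
      (match w, q with
        | .inl _, q => q.1
        | .inr _, q => q.1) := by
    rintro (s | k) q
    · exact hγ' _ (hUo s.1) q.1 (hY s q.1 q.2).1 (hne s ▸ (hY s q.1 q.2).2)
    · exact hγ' _ (hV k) q.1 (hX d k q.1 q.2 hd).1 (hX d k q.1 q.2 hd).2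
  choose g hg using hlift
  haveI : Fintype α := Fintype.ofFinite α
  obtain ⟨F, j, hj, ⟨hFq, hFT⟩, hrange⟩ := Groth.L17.Approx.exists_submodule_finset G W (fun w => by
    rcases w with s | k
    · exact (hUo s.1).isCompact
    · exact (hV k).isCompact) Idx g Finset.univ
  haveI : Coh.IsQCoh F := hFq
  haveI := hj
  let ι := j ≫ γ
  have hdeg : ∀ (U : S.Opens) (hU : IsAffineOpen U) (x : Γ(F, U)), (ι.app U) x ∈ 𝒮.deg U hU d :=
    fun U hU x => (hγ U hU (j.app U x)).2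
  let Φ := spanFamily ι hdeg
  have hmem : ∀ w (q : Idx w), (γ.app (W w) (g w q) : 𝒮.presheaf.obj (op (W w))) ∈ Set.range (ι.app (W w)) := by
    intro w q
    obtain ⟨x, hx⟩ := hrange w (Finset.mem_univ _) q
    exact ⟨x, congrArg (γ.app (W w)) hx⟩
  obtain ⟨PB, pB, chartB, h, eZ, hB, hh, heZ⟩ := exists_iso i hP Φ fun x => by
    obtain ⟨U, hUC, hxU⟩ := Set.mem_iUnion₂.1 (hC (Set.mem_univ (p x)))
    let c : C := ⟨U, hUC⟩
    obtain ⟨v, rfl⟩ := (Groth.L18.RP.opensRange_emb (chart := chart) (Uo c) (hUo c)).ge hxU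
    obtain ⟨t, htT, htv⟩ := exists_notMem_of_isFrames (hT c) v
    let s : ξ := ⟨c, ⟨t, htT⟩⟩
    refine ⟨Uo c, hUo c, e s, t, ht s, he s, ?_, fun m a ha => ⟨fun ⟨N, hN⟩ => ?_, fun hK => ?_⟩⟩
    · obtain ⟨w, hw⟩ := (Proj.opensRange_awayι (𝒮.deg (Uo c) (hUo c)) t (ht s) (he s)).ge ((Proj.mem_basicOpen _ _ _).2 htv)
      refine ⟨w, ?_⟩
      show (Proj.awayι (𝒮.deg (Uo c) (hUo c)) t (ht s) (he s) ≫ RelProj.emb p chart (Uo c) (hUo c)).base w = _
      rw [Scheme.Hom.comp_apply, hw]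
    · refine mk_mem_K_of_mem_vanish _ i _ (ht s) (he s) ha (N := N) (Ideal.span_le.2 ?_ hN)
      rintro _ ⟨y, rfl⟩
      exact (hγ (Uo c) (hUo c) (j.app (Uo c) y)).1
    · refine exists_pow_mul_mem_of_family i _ (Φ.id (Uo c) (hUo c)) (ht s) (he s) (fun y hy => (hY s y hy).2)
        (hYK s) (fun y hy => ?_) ha hK
      obtain ⟨z, hz⟩ := hmem (.inl s) ⟨y, hy⟩
      exact Ideal.subset_span ⟨z, hz.trans (hg (.inl s) ⟨y, hy⟩)⟩
  refine ⟨d, hd, F, hFq, hFT, ι, inferInstance, hdeg, Φ.qGr, Φ.qHom, Φ.qHom_isGraded, PB, pB, chartB, h, eZ,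
    fun k x hx => (hmem (.inr k) ⟨x, hx⟩).imp fun z hz => hz.trans (hg (.inr k) ⟨x, hx⟩), fun U hU => ⟨fun y => ?_, ?_⟩, hB, hh, heZ⟩
  · exact (Φ.qπ_surjective U hU y).imp fun x hx => (Φ.qHom_app hU x).trans hx
  · refine SetLike.ext fun x => ?_
    exact RingHom.mem_ker.trans ((iff_of_eq (congrArg (· = 0) (Φ.qHom_app hU x))).trans (Φ.qπ_eq_zero hU x))

end Groth.L06.RelProjClosed
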