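import Groth.Agent.L06.RelProjClosed.FP

/-!
# Equations of a closed subscheme of relative `Proj` away from an open of the base
-/

set_option autoImplicit false
set_option linter.style.haveILetI false

noncomputable section

universe u

open CategoryTheory CategoryTheory.Limits AlgebraicGeometry TopologicalSpace Opposite HomogeneousLocalization
open scoped HomogeneousIdeal

namespace Groth.L06.RelProjClosed

open Groth.L18

theorem vanish_eq_top {A σ : Type u} [CommRing A] [SetLike σ A] [AddSubgroupClass σ A] {𝒜 : ℕ → σ}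
    [GradedRing 𝒜] {Z P : Scheme.{u}} (i : Z ⟶ P) [IsAffineHom i] (ε : Proj 𝒜 ⟶ P)
    (h : ∀ (z : Z) (v : Proj 𝒜), i z ≠ ε v) : vanish 𝒜 i ε = ⊤ := by
  refine (Ideal.eq_top_iff_one _).2 fun e t ht he => ⟨0, ?_⟩
  rw [pow_zero, one_mul]
  refine Ideal.subset_span ⟨0, by simpa using SetLike.one_mem_graded 𝒜, fun C a g hg => ?_⟩
  haveI : IsEmpty (Spec C) := ⟨fun y => h (g y) ((Proj.awayι 𝒜 t ht he) (Spec.map a y)) (by
    rw [← Scheme.Hom.comp_apply, hg, Scheme.Hom.comp_apply, ← Scheme.Hom.comp_apply]; rfl)⟩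
  haveI : Subsingleton C := PrimeSpectrum.isEmpty_iff_subsingleton.1 (inferInstanceAs (IsEmpty (Spec C)))
  exact Subsingleton.elim _ _

variable {S : Scheme.{u}} {𝒮 : RelProj.QCGrAlg S} {F : S.Modules} (ι : F ⟶ 𝒮.toModule)

theorem str_mul_mem_range {W : S.Opens} (r : Γ(S, W)) {x : 𝒮.presheaf.obj (op W)}
    (hx : x ∈ Set.range (ι.app W)) : (𝒮.str.app (op W)).hom r * x ∈ Set.range (ι.app W) := by
  obtain ⟨z, rfl⟩ := hx
  exact ⟨r • z, Scheme.Modules.Hom.app_smul ι r z⟩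

theorem res_mem_range {U V : S.Opens} (j : V ≤ U) {x : 𝒮.presheaf.obj (op U)} (hx : x ∈ Set.range (ι.app U)) :
    (𝒮.presheaf.map (homOfLE j).op).hom x ∈ Set.range (ι.app V) := by
  obtain ⟨z, rfl⟩ := hx
  exact ⟨F.presheaf.map (homOfLE j).op z,
    ConcreteCategory.congr_hom ((Scheme.Modules.Hom.mapPresheaf ι).naturality (homOfLE j).op) z⟩

/-- A piece generated by sections in the image lies in the image over basic opens. -/
theorem mem_range_basicOpen {U : S.Opens} (hU : IsAffineOpen U) (r : Γ(S, U)) (d : ℕ)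
    (s : Finset (𝒮.presheaf.obj (op U)))
    (hs : ∀ x ∈ 𝒮.deg U hU d, ∃ c : (𝒮.presheaf.obj (op U)) → Γ(S, U),
      x = ∑ g ∈ s, (𝒮.str.app (op U)).hom (c g) * g)
    (hs' : ∀ g ∈ s, g ∈ Set.range (ι.app U)) {y : 𝒮.presheaf.obj (op (S.basicOpen r))}
    (hy : y ∈ 𝒮.deg (S.basicOpen r) (hU.basicOpen r) d) : y ∈ Set.range (ι.app (S.basicOpen r)) := by
  classical
  let ρ : 𝒮.presheaf.obj (op U) →+* 𝒮.presheaf.obj (op (S.basicOpen r)) :=
    (𝒮.presheaf.map (homOfLE (S.basicOpen_le r)).op).hom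
  let c := (𝒮.str.app (op U)).hom r
  letI : Algebra (𝒮.presheaf.obj (op U)) (𝒮.presheaf.obj (op (S.basicOpen r))) := ρ.toAlgebra
  haveI : IsLocalization.Away c (𝒮.presheaf.obj (op (S.basicOpen r))) := 𝒮.isQC U hU r
  obtain ⟨⟨a, _, n, rfl⟩, ha⟩ := IsLocalization.surj (Submonoid.powers c) y
  have ha' : y * ρ (c ^ n) = ρ a := ha
  have hρc : ρ (c ^ n) = (𝒮.str.app (op (S.basicOpen r))).hom
      ((S.presheaf.map (homOfLE (S.basicOpen_le r)).op).hom (r ^ n)) := by
    rw [← map_pow]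
    exact (ConcreteCategory.congr_hom (𝒮.str.naturality (homOfLE (S.basicOpen_le r)).op) (r ^ n)).symm
  obtain ⟨f, hf⟩ := hs _ (degPart_mem 𝒮 U hU d a)
  have h1 : degPart 𝒮 U hU d a ∈ Set.range (ι.app U) := by
    rw [hf]
    exact Finset.sum_induction _ (· ∈ Set.range (ι.app U))
      (fun _ _ ⟨u, hu⟩ ⟨v, hv⟩ => ⟨u + v, (map_add _ u v).trans (congrArg₂ (· + ·) hu hv)⟩)
      ⟨0, map_zero _⟩ fun g hg => str_mul_mem_range ι _ (hs' g hg)
  have h2 := res_mem_range ι (S.basicOpen_le r) h1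
  rw [← degPart_res 𝒮 hU (hU.basicOpen r) (S.basicOpen_le r) d a, show (𝒮.presheaf.map (homOfLE (S.basicOpen_le r)).op).hom a = y * ρ (c ^ n) from ha'.symm,
    hρc, mul_comm, degPart_str_mul, degPart_of_mem 𝒮 _ _ hy] at h2
  have hu : IsUnit ((S.presheaf.map (homOfLE (S.basicOpen_le r)).op).hom (r ^ n)) := by
    rw [map_pow]
    exact (RingedSpace.isUnit_res_basicOpen S.toRingedSpace r).pow n
  obtain ⟨w, hw⟩ := hu.exists_left_inv
  have h3 := str_mul_mem_range ι w h2
  rwa [← mul_assoc, ← map_mul, hw, map_one, one_mul] at h3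

/-- If the degree `d` piece is generated by sections in the image on a cover of `W` then the image exhausts it. -/
theorem mem_range_of_cover [Coh.IsQCoh F] {α : Type*} (V : α → S.Opens) (hV : ∀ k, IsAffineOpen (V k)) (d : ℕ)
    (s : ∀ k, Finset (𝒮.presheaf.obj (op (V k))))
    (hs : ∀ k, ∀ x ∈ 𝒮.deg (V k) (hV k) d, ∃ c : (𝒮.presheaf.obj (op (V k))) → Γ(S, V k),
      x = ∑ g ∈ s k, (𝒮.str.app (op (V k))).hom (c g) * g)
    (hs' : ∀ k, ∀ g ∈ s k, g ∈ Set.range (ι.app (V k)))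
    {W : S.Opens} (hW : IsAffineOpen W) (hWV : ∀ x ∈ W, ∃ k, x ∈ V k) {y : 𝒮.presheaf.obj (op W)}
    (hy : y ∈ 𝒮.deg W hW d) : y ∈ Set.range (ι.app W) := by
  classical
  let L : Ideal Γ(S, W) :=
    { carrier := {r | (𝒮.str.app (op W)).hom r * y ∈ Set.range (ι.app W)}
      zero_mem' := ⟨0, by rw [map_zero, map_zero, zero_mul]; rfl⟩
      add_mem' := fun {a b} ⟨u, hu⟩ ⟨v, hv⟩ => ⟨u + v, by
        rw [map_add (𝒮.str.app (op W)).hom, add_mul]
        exact (map_add _ u v).trans (congrArg₂ (· + ·) hu hv)⟩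
      smul_mem' := fun a b hb => by
        show (𝒮.str.app (op W)).hom (a * b) * y ∈ Set.range (ι.app W)
        rw [map_mul, mul_assoc]
        exact str_mul_mem_range ι a hb }
  suffices h : (1 : Γ(S, W)) ∈ L.radical by
    obtain ⟨n, hn⟩ := h
    have : (𝒮.str.app (op W)).hom 1 * y ∈ Set.range (ι.app W) := by rw [one_pow] at hn; exact hn
    rwa [map_one, one_mul] at this
  have htop : L.radical = ⊤ := by
    rw [eq_top_iff, ← (hW.iSup_basicOpen_eq_self_iff
      (s := {s | ∃ (k : α) (r : Γ(S, V k)), S.basicOpen s = S.basicOpen r})).1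
      (le_antisymm (iSup_le fun s => S.basicOpen_le _) fun x hx => ?_), Ideal.span_le]
    · rintro b ⟨k, r, e⟩
      have key : ∀ {D : S.Opens} (hD : IsAffineOpen D) (_ : S.basicOpen r = D) (j : D ≤ W),
          (𝒮.presheaf.map (homOfLE j).op).hom y ∈ Set.range (ι.app D) := by
        intro D hD eD j; subst eD
        exact mem_range_basicOpen ι (hV k) r d (s k) (hs k) (hs' k) (𝒮.map_mem hW hD j hy)
      obtain ⟨z, hz⟩ := key (hW.basicOpen b) e.symm (S.basicOpen_le b)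
      let ρ : 𝒮.presheaf.obj (op W) →+* 𝒮.presheaf.obj (op (S.basicOpen b)) :=
        (𝒮.presheaf.map (homOfLE (S.basicOpen_le b)).op).hom
      let c := (𝒮.str.app (op W)).hom b
      letI : Algebra (𝒮.presheaf.obj (op W)) (𝒮.presheaf.obj (op (S.basicOpen b))) := ρ.toAlgebra
      haveI : IsLocalization.Away c (𝒮.presheaf.obj (op (S.basicOpen b))) := 𝒮.isQC W hW b
      letI := Module.compHom Γ(F, S.basicOpen b) (S.presheaf.map (homOfLE (S.basicOpen_le b)).op).hom
      haveI := Groth.L20.ModStalk.isLocalizedModule_res F hW b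
      obtain ⟨⟨z₀, ⟨_, n, rfl⟩⟩, hz₀⟩ := IsLocalizedModule.surj (Submonoid.powers b)
        ({ toFun := fun s => Groth.L18.Frame.rs F (S.basicOpen_le b) s
           map_add' := fun a b' => map_add _ a b'
           map_smul' := fun a s => Groth.L18.Frame.rs_smul F (S.basicOpen_le b) a s } :
          Γ(F, W) →ₗ[Γ(S, W)] Γ(F, S.basicOpen b)) z
      have hρc : ρ (c ^ n) = (𝒮.str.app (op (S.basicOpen b))).hom
          ((S.presheaf.map (homOfLE (S.basicOpen_le b)).op).hom (b ^ n)) := by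
        rw [← map_pow]
        exact (ConcreteCategory.congr_hom (𝒮.str.naturality (homOfLE (S.basicOpen_le b)).op) (b ^ n)).symm
      have h1 : ρ (c ^ n * y) = ρ (ι.app W z₀) := by
        rw [map_mul, hρc]
        refine Eq.trans (congrArg _ hz.symm) (((Scheme.Modules.Hom.app_smul ι _ z).symm.trans
          (congrArg (ι.app (S.basicOpen b)) hz₀)).trans
          (ConcreteCategory.congr_hom ((Scheme.Modules.Hom.mapPresheaf ι).naturality (homOfLE (S.basicOpen_le b)).op) z₀))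
      obtain ⟨⟨_, N, rfl⟩, hN⟩ := (IsLocalization.eq_iff_exists (Submonoid.powers c)
        (𝒮.presheaf.obj (op (S.basicOpen b)))).1 h1
      refine ⟨N + n, ?_⟩
      show (𝒮.str.app (op W)).hom (b ^ (N + n)) * y ∈ Set.range (ι.app W)
      have hN' : c ^ N * (c ^ n * y) = c ^ N * (show 𝒮.presheaf.obj (op W) from ι.app W z₀) := hN
      rw [map_pow, pow_add, mul_assoc, hN', ← map_pow]
      exact str_mul_mem_range ι _ ⟨z₀, rfl⟩
    · obtain ⟨k, hk⟩ := hWV x hx
      obtain ⟨b, r, e, hxb⟩ := exists_basicOpen_le_affine_inter hW (hV k) x ⟨hx, hk⟩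
      exact Opens.mem_iSup.mpr ⟨⟨b, k, r, e⟩, hxb⟩
  rw [htop]
  trivial

end Groth.L06.RelProjClosed
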