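import Groth.Agent.L18.ProjAlg.PointKer
import Mathlib.AlgebraicGeometry.ProjectiveSpectrum.Basic
import Mathlib.RingTheory.GradedAlgebra.Radical

/-!
# The homogeneous ideal of a closed subscheme of `Proj`, with frames of arbitrary degree
-/

set_option autoImplicit false

noncomputable section

universe u

open CategoryTheory CategoryTheory.Limits AlgebraicGeometry TopologicalSpace Opposite HomogeneousLocalization
open scoped HomogeneousIdeal

namespace Groth.L06.RelProjClosed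

open Groth.L18

variable {A σ : Type u} [CommRing A] [SetLike σ A] [AddSubgroupClass σ A] (𝒜 : ℕ → σ) [GradedRing 𝒜]

theorem mk_congr {t : A} {e : ℕ} (ht : t ∈ 𝒜 e) {m : ℕ} {a b : A} (h : a = b) (ha : a ∈ 𝒜 (m • e))
    (hb : b ∈ 𝒜 (m • e)) : Away.mk 𝒜 ht m a ha = Away.mk 𝒜 ht m b hb := by subst h; rfl

theorem mk_mul {t : A} {e : ℕ} (ht : t ∈ 𝒜 e) {m n : ℕ} {a b : A} (ha : a ∈ 𝒜 (m • e)) (hb : b ∈ 𝒜 (n • e))
    (hab : a * b ∈ 𝒜 ((m + n) • e)) :
    Away.mk 𝒜 ht (m + n) (a * b) hab = Away.mk 𝒜 ht m a ha * Away.mk 𝒜 ht n b hb :=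
  val_injective _ (by simp [Away.val_mk, Localization.mk_mul, pow_add])

theorem mk_shift {t : A} {e : ℕ} (ht : t ∈ 𝒜 e) {m : ℕ} {a : A} (ha : a ∈ 𝒜 (m • e)) (n : ℕ)
    (h : t ^ n * a ∈ 𝒜 ((n + m) • e)) : Away.mk 𝒜 ht (n + m) (t ^ n * a) h = Away.mk 𝒜 ht m a ha := by
  apply val_injective
  rw [Away.val_mk, Away.val_mk, Localization.mk_eq_mk_iff, Localization.r_iff_exists]
  exact ⟨1, by simp only [OneMemClass.coe_one, one_mul, pow_add]; ring⟩

theorem pow_mul_mem {t : A} {e : ℕ} (ht : t ∈ 𝒜 e) {d : ℕ} {a : A} (ha : a ∈ 𝒜 d) (n : ℕ) :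
    t ^ n * a ∈ 𝒜 (n • e + d) :=
  SetLike.mul_mem_graded (SetLike.pow_mem_graded n ht) ha

theorem fromZero_pow_mul {t : A} {e : ℕ} (ht : t ∈ 𝒜 e) {c : A} (hc : c ∈ 𝒜 0) (N : ℕ) {m : ℕ} {a : A}
    (ha : a ∈ 𝒜 (m • e)) (h : c ^ N * a ∈ 𝒜 (m • e)) :
    fromZeroRingHom 𝒜 (Submonoid.powers t) ⟨c, hc⟩ ^ N * Away.mk 𝒜 ht m a ha = Away.mk 𝒜 ht m (c ^ N * a) h := by
  apply val_injective
  simp [fromZeroRingHom, val_mk, Away.val_mk, Localization.mk_pow, Localization.mk_mul]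

variable {Z P : Scheme.{u}} (i : Z ⟶ P) (ε : Proj 𝒜 ⟶ P)

/-- The chart at a homogeneous element of positive degree. -/
abbrev chartAt {e : ℕ} {t : A} (ht : t ∈ 𝒜 e) (he : 0 < e) : Spec (CommRingCat.of (Away 𝒜 t)) ⟶ P :=
  Proj.awayι 𝒜 t ht he ≫ ε

/-- The functions on the chart at `t` vanishing on `Z`. -/
abbrev K {e : ℕ} {t : A} (ht : t ∈ 𝒜 e) (he : 0 < e) : Ideal (Away 𝒜 t) :=
  PointKer.ker i (chartAt 𝒜 ε ht he)

theorem awayι_congr {x : A} {n n' : ℕ} (hn : n = n') (hx : x ∈ 𝒜 n) (hx' : x ∈ 𝒜 n') (h : 0 < n) (h' : 0 < n') :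
    Proj.awayι 𝒜 x hx h = Proj.awayι 𝒜 x hx' h' := by subst hn; rfl

/-- Numerators of the functions vanishing on `Z` in the chart at `t`. -/
def numSet {e : ℕ} {t : A} (ht : t ∈ 𝒜 e) (he : 0 < e) : Set A :=
  {a | ∃ (m : ℕ) (ha : a ∈ 𝒜 (m • e)), Away.mk 𝒜 ht m a ha ∈ K 𝒜 i ε ht he}

/-- The ideal generated by these numerators. -/
def J {e : ℕ} {t : A} (ht : t ∈ 𝒜 e) (he : 0 < e) : Ideal A := Ideal.span (numSet 𝒜 i ε ht he)

theorem J_isHomogeneous {e : ℕ} {t : A} (ht : t ∈ 𝒜 e) (he : 0 < e) : (J 𝒜 i ε ht he).IsHomogeneous 𝒜 :=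
  Ideal.homogeneous_span 𝒜 _ fun _ ⟨m, ha, _⟩ => ⟨m • e, ha⟩

/-- The elements of `J` of degree a multiple of `e` vanish on `Z`. -/
theorem mk_mem_K {e : ℕ} {t : A} (ht : t ∈ 𝒜 e) (he : 0 < e) {y : A} (hy : y ∈ J 𝒜 i ε ht he) {M : ℕ}
    (hyM : y ∈ 𝒜 (M • e)) : Away.mk 𝒜 ht M y hyM ∈ K 𝒜 i ε ht he := by
  classical
  let P : A → Prop := fun z => ∀ c : A,
    Away.mk 𝒜 ht M (DirectSum.decompose 𝒜 (c * z) (M • e) : A) (SetLike.coe_mem _) ∈ K 𝒜 i ε ht he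
  suffices h : P y by
    have h1 := h 1
    rwa [mk_congr 𝒜 ht (by rw [one_mul]; exact DirectSum.decompose_of_mem_same 𝒜 hyM) _ hyM] at h1
  clear hyM
  induction hy using Submodule.span_induction with
  | mem a ha =>
    intro c
    obtain ⟨m, ham, haK⟩ := ha
    by_cases hle : m • e ≤ M • e
    · have hm : m ≤ M := Nat.le_of_mul_le_mul_right (by simpa using hle) he
      obtain ⟨k, rfl⟩ := Nat.exists_eq_add_of_le' hm
      have hk : (k + m) • e - m • e = k • e := by rw [add_smul]; omega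
      have h1 : (DirectSum.decompose 𝒜 (c * a) ((k + m) • e) : A) = (DirectSum.decompose 𝒜 c (k • e) : A) * a := by
        rw [DirectSum.coe_decompose_mul_of_right_mem_of_le 𝒜 ham hle, hk]
      rw [mk_congr 𝒜 ht h1 _ (h1 ▸ SetLike.coe_mem _), mk_mul 𝒜 ht (SetLike.coe_mem _) ham]
      exact Ideal.mul_mem_left _ _ haK
    · have h1 : (DirectSum.decompose 𝒜 (c * a) (M • e) : A) = 0 := by
        rw [DirectSum.coe_decompose_mul_of_right_mem_of_not_le 𝒜 ham hle]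
      rw [mk_congr 𝒜 ht h1 _ (zero_mem _),
        show Away.mk 𝒜 ht M (0 : A) (zero_mem _) = 0 from val_injective _ (by simp [Away.val_mk, Localization.mk_zero])]
      exact zero_mem _
  | zero =>
    intro c
    rw [mk_congr 𝒜 ht (show (DirectSum.decompose 𝒜 (c * 0) (M • e) : A) = 0 by simp) _ (zero_mem _),
      show Away.mk 𝒜 ht M (0 : A) (zero_mem _) = 0 from val_injective _ (by simp [Away.val_mk, Localization.mk_zero])]
    exact zero_mem _
  | add x z _ _ hx hz =>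
    intro c
    have h1 : (DirectSum.decompose 𝒜 (c * (x + z)) (M • e) : A) =
        (DirectSum.decompose 𝒜 (c * x) (M • e) : A) + (DirectSum.decompose 𝒜 (c * z) (M • e) : A) := by
      rw [mul_add, DirectSum.decompose_add, DirectSum.add_apply, AddMemClass.coe_add]
    rw [mk_congr 𝒜 ht h1 _ (add_mem (SetLike.coe_mem _) (SetLike.coe_mem _)),
      show Away.mk 𝒜 ht M _ (add_mem (SetLike.coe_mem (DirectSum.decompose 𝒜 (c * x) (M • e)))
        (SetLike.coe_mem (DirectSum.decompose 𝒜 (c * z) (M • e)))) =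
          Away.mk 𝒜 ht M _ (SetLike.coe_mem (DirectSum.decompose 𝒜 (c * x) (M • e))) +
            Away.mk 𝒜 ht M _ (SetLike.coe_mem (DirectSum.decompose 𝒜 (c * z) (M • e))) from
        val_injective _ (by simp [Away.val_mk, Localization.add_mk_self])]
    exact add_mem (hx c) (hz c)
  | smul r x _ hx =>
    intro c
    rw [mk_congr 𝒜 ht (by rw [smul_eq_mul (a := r), ← mul_assoc]) _ (SetLike.coe_mem (DirectSum.decompose 𝒜 (c * r * x) (M • e)))]
    exact hx (c * r)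

/-- Exchange of frames. -/
theorem exchange [IsAffineHom i] {e : ℕ} {t : A} (ht : t ∈ 𝒜 e) (he : 0 < e) {e' : ℕ} {v : A} (hv : v ∈ 𝒜 e')
    (he' : 0 < e') {m : ℕ} {a : A} (ha : a ∈ 𝒜 (m • e)) (h : Away.mk 𝒜 ht m a ha ∈ K 𝒜 i ε ht he) :
    ∃ N, t ^ N * a ∈ J 𝒜 i ε hv he' := by
  have hx2 : v * t ∈ 𝒜 (e' + e) := SetLike.mul_mem_graded hv ht
  let ψ : CommRingCat.of (Away 𝒜 v) ⟶ CommRingCat.of (Away 𝒜 (v * t)) :=
    CommRingCat.ofHom (awayMap 𝒜 ht (rfl : v * t = v * t))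
  let ψ' : CommRingCat.of (Away 𝒜 t) ⟶ CommRingCat.of (Away 𝒜 (v * t)) :=
    CommRingCat.ofHom (awayMap 𝒜 hv (mul_comm v t))
  let e2 : Spec (CommRingCat.of (Away 𝒜 (v * t))) ⟶ P := Proj.awayι 𝒜 (v * t) hx2 (by omega) ≫ ε
  have hψ : e2 = Spec.map ψ ≫ chartAt 𝒜 ε hv he' := by
    simp only [e2, ψ, chartAt, ← Category.assoc, Proj.SpecMap_awayMap_awayι]
  have hψ' : e2 = Spec.map ψ' ≫ chartAt 𝒜 ε ht he := by
    simp only [e2, ψ', chartAt, ← Category.assoc, Proj.SpecMap_awayMap_awayι]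
    rw [awayι_congr 𝒜 (add_comm e' e)]
  have hq : t ^ (m * (e' - 1)) * a ∈ 𝒜 ((m * e) • e') := by
    have h1 : m * (e' - 1) • e + m • e = (m * e) • e' := by
      obtain ⟨k, rfl⟩ : ∃ k, e' = k + 1 := ⟨e' - 1, by omega⟩
      simp only [smul_eq_mul, Nat.add_sub_cancel]
      ring
    have h2 := pow_mul_mem 𝒜 ht ha (m * (e' - 1))
    rw [smul_eq_mul] at h1 h2 ⊢
    rw [show m * (e' - 1) * e = m * ((e' - 1) * e) from mul_assoc _ _ _] at h2
    simp only [smul_eq_mul] at h1 h2 ⊢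
    exact h1 ▸ h2
  let w : Away 𝒜 v := Away.isLocalizationElem (𝒜 := 𝒜) hv ht
  let q : Away 𝒜 v := Away.mk 𝒜 hv (m * e) _ hq
  have hr : (awayMap 𝒜 ht (rfl : v * t = v * t)) q =
      (awayMap 𝒜 ht (rfl : v * t = v * t)) w ^ m * (awayMap 𝒜 hv (mul_comm v t)) (Away.mk 𝒜 ht m a ha) := by
    apply val_injective
    simp only [q, w, Away.isLocalizationElem, val_mul, val_pow, awayMap_mk, Away.val_mk, Localization.mk_pow,
      Localization.mk_mul]
    rw [Localization.mk_eq_mk_iff, Localization.r_iff_exists]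
    refine ⟨1, ?_⟩
    obtain ⟨k, rfl⟩ : ∃ k, e' = k + 1 := ⟨e' - 1, by omega⟩
    simp only [Submonoid.coe_mul, SubmonoidClass.coe_pow, OneMemClass.coe_one, one_mul, Nat.add_sub_cancel]
    simp only [mul_pow, pow_add, pow_mul, pow_one]
    ring
  have hmem : ψ.hom q ∈ PointKer.ker i e2 := by
    show (awayMap 𝒜 ht (rfl : v * t = v * t)) q ∈ _
    rw [hr]
    exact Ideal.mul_mem_left _ _ (PointKer.map_mem ψ' hψ' h)
  obtain ⟨N, hN⟩ := PointKer.exists_pow_mul_mem ψ hψ w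
    (Away.isLocalization_mul (𝒜 := 𝒜) hv ht rfl (by omega)) hmem
  have hmem2 : t ^ (e' * N) * (t ^ (m * (e' - 1)) * a) ∈ 𝒜 ((N * e + m * e) • e') := by
    rw [add_smul]
    refine SetLike.mul_mem_graded ?_ hq
    have := SetLike.pow_mem_graded (e' * N) ht
    rw [smul_eq_mul] at this ⊢
    rwa [show N * e * e' = e' * N * e by ring]
  refine ⟨e' * N + m * (e' - 1), Ideal.subset_span ⟨N * e + m * e, ?_, ?_⟩⟩
  · rwa [pow_add, mul_assoc]
  · convert hN using 1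
    apply val_injective
    simp only [q, w, Away.isLocalizationElem, val_mul, val_pow, Away.val_mk, Localization.mk_pow,
      Localization.mk_mul]
    rw [Localization.mk_eq_mk_iff, Localization.r_iff_exists]
    refine ⟨1, ?_⟩
    simp only [Submonoid.coe_mul, SubmonoidClass.coe_pow, OneMemClass.coe_one, one_mul]
    ring

theorem exists_pow_mem_J [IsAffineHom i] {e : ℕ} {t : A} (ht : t ∈ 𝒜 e) (he : 0 < e) {e' : ℕ} {v : A}
    (hv : v ∈ 𝒜 e') (he' : 0 < e') {y : A} (hy : y ∈ J 𝒜 i ε ht he) : ∃ N, t ^ N * y ∈ J 𝒜 i ε hv he' := by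
  induction hy using Submodule.span_induction with
  | mem a ha =>
    obtain ⟨m, ham, haK⟩ := ha
    exact exchange 𝒜 i ε ht he hv he' ham haK
  | zero => exact ⟨0, by simp⟩
  | add x z _ _ hx hz =>
    obtain ⟨M, hM⟩ := hx
    obtain ⟨N, hN⟩ := hz
    refine ⟨M + N, ?_⟩
    rw [mul_add]
    exact add_mem (by rw [pow_add, mul_comm (t ^ M), mul_assoc]; exact Ideal.mul_mem_left _ _ hM)
      (by rw [pow_add, mul_assoc]; exact Ideal.mul_mem_left _ _ hN)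
  | smul r x _ hx =>
    obtain ⟨N, hN⟩ := hx
    exact ⟨N, by rw [smul_eq_mul, mul_left_comm]; exact Ideal.mul_mem_left _ _ hN⟩

theorem pow_mul_mem_of_le {I : Ideal A} {t x : A} {n k : ℕ} (h : t ^ n * x ∈ I) (hk : n ≤ k) : t ^ k * x ∈ I := by
  rw [← Nat.sub_add_cancel hk, pow_add, mul_assoc]
  exact Ideal.mul_mem_left _ _ h

/-- The ideal of elements vanishing on `Z`. -/
def vanish : Ideal A where
  carrier := {x | ∀ (e : ℕ) (t : A) (ht : t ∈ 𝒜 e) (he : 0 < e), ∃ n, t ^ n * x ∈ J 𝒜 i ε ht he}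
  zero_mem' e t ht he := ⟨0, by simp⟩
  add_mem' {x y} hx hy e t ht he := by
    obtain ⟨m, hm⟩ := hx e t ht he
    obtain ⟨n, hn⟩ := hy e t ht he
    exact ⟨m + n, by
      rw [mul_add]
      exact add_mem (pow_mul_mem_of_le hm (Nat.le_add_right m n)) (pow_mul_mem_of_le hn (Nat.le_add_left n m))⟩
  smul_mem' a x hx e t ht he := by
    obtain ⟨n, hn⟩ := hx e t ht he
    exact ⟨n, by rw [smul_eq_mul, mul_left_comm]; exact Ideal.mul_mem_left _ _ hn⟩

theorem decompose_mem_vanish {x : A} (hx : x ∈ vanish 𝒜 i ε) (d : ℕ) :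
    (DirectSum.decompose 𝒜 x d : A) ∈ vanish 𝒜 i ε := by
  classical
  intro e t ht he
  obtain ⟨n, hn⟩ := hx e t ht he
  refine ⟨n, ?_⟩
  rw [← DirectSum.coe_decompose_mul_add_of_left_mem 𝒜 (SetLike.pow_mem_graded n ht)]
  exact J_isHomogeneous 𝒜 i ε ht he _ hn

/-- A finite family of frames covering everything. -/
def IsFrames (T : Finset A) : Prop :=
  (∀ t ∈ T, ∃ e, 0 < e ∧ t ∈ 𝒜 e) ∧ (𝒜₊).toIdeal ≤ (Ideal.span (T : Set A)).radical

variable {𝒜}

/-- It is enough to test a covering family of frames. -/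
theorem mem_vanish_of_frames [IsAffineHom i] {T : Finset A} (hT : IsFrames 𝒜 T) {x : A}
    (h : ∀ t ∈ T, ∀ (e : ℕ) (ht : t ∈ 𝒜 e) (he : 0 < e), ∃ n, t ^ n * x ∈ J 𝒜 i ε ht he) :
    x ∈ vanish 𝒜 i ε := by
  intro e t ht he
  let L : Ideal A := (J 𝒜 i ε ht he).colon {x}
  suffices hL : (Ideal.span (T : Set A)).radical ≤ L.radical by
    obtain ⟨n, hn⟩ := hL (hT.2 (HomogeneousIdeal.mem_irrelevant_of_mem _ he ht))
    exact ⟨n, Submodule.mem_colon_singleton.mp hn⟩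
  refine Ideal.radical_le_radical_iff.mpr (Ideal.span_le.mpr fun v hv => ?_)
  obtain ⟨e', he', hv'⟩ := hT.1 v hv
  obtain ⟨n, hn⟩ := h v hv e' hv' he'
  obtain ⟨N, hN⟩ := exists_pow_mem_J 𝒜 i ε hv' he' ht he hn
  refine ⟨N + n, Submodule.mem_colon_singleton.mpr ?_⟩
  rw [smul_eq_mul, pow_add, mul_assoc]
  exact hN

/-- The ideal cuts out the given functions on every chart. -/
theorem exists_pow_mul_mem_vanish [IsAffineHom i] {T : Finset A} (hT : IsFrames 𝒜 T) {e : ℕ} {t : A}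
    (ht : t ∈ 𝒜 e) (he : 0 < e) {m : ℕ} {a : A} (ha : a ∈ 𝒜 (m • e))
    (h : Away.mk 𝒜 ht m a ha ∈ K 𝒜 i ε ht he) : ∃ N, t ^ N * a ∈ vanish 𝒜 i ε := by
  classical
  have hex : ∀ v : T, ∃ N, ∀ (e' : ℕ) (hv : v.1 ∈ 𝒜 e') (he' : 0 < e'), t ^ N * a ∈ J 𝒜 i ε hv he' := by
    intro v
    obtain ⟨e₁, he₁, hv₁⟩ := hT.1 v v.2
    by_cases h0 : v.1 = 0
    · refine ⟨0, fun e' hv he' => ?_⟩
      obtain ⟨N, hN⟩ := exchange 𝒜 i ε hv he' hv he' (a := (0 : A)) (zero_mem (𝒜 (0 • e'))) (by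
        rw [show Away.mk 𝒜 hv 0 (0 : A) (zero_mem _) = 0 from val_injective _ (by simp [Away.val_mk, Localization.mk_zero])]
        exact zero_mem _)
      have h1 : (1 : A) ∈ J 𝒜 i ε hv he' := by
        refine Ideal.subset_span ⟨0, by simpa using SetLike.one_mem_graded 𝒜, ?_⟩
        have : Subsingleton (Away 𝒜 v.1) := by
          haveI : Subsingleton (Localization (Submonoid.powers v.1)) :=
            IsLocalization.subsingleton (M := Submonoid.powers v.1) ⟨1, by simp [h0]⟩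
          exact (val_injective _).subsingleton
        rw [Subsingleton.elim (Away.mk 𝒜 hv 0 (1 : A) _) 0]
        exact zero_mem _
      simpa using Ideal.mul_mem_left _ a h1
    · obtain ⟨N, hN⟩ := exchange 𝒜 i ε ht he hv₁ he₁ ha h
      refine ⟨N, fun e' hv he' => ?_⟩
      obtain rfl : e' = e₁ := DirectSum.degree_eq_of_mem_mem 𝒜 hv hv₁ h0
      exact hN
  choose N hN using hex
  refine ⟨Finset.univ.sup N, mem_vanish_of_frames i ε hT fun v hv e' hv' he' => ⟨0, ?_⟩⟩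
  rw [pow_zero, one_mul]
  exact pow_mul_mem_of_le (hN ⟨v, hv⟩ e' hv' he') (Finset.le_sup (f := N) (Finset.mem_univ _))

variable (𝒜) in
/-- The functions cut out by the ideal vanish on `Z`. -/
theorem mk_mem_K_of_mem_vanish {e : ℕ} {t : A} (ht : t ∈ 𝒜 e) (he : 0 < e) {m : ℕ} {a : A} (ha : a ∈ 𝒜 (m • e))
    {N : ℕ} (h : t ^ N * a ∈ vanish 𝒜 i ε) : Away.mk 𝒜 ht m a ha ∈ K 𝒜 i ε ht he := by
  obtain ⟨n, hn⟩ := h e t ht he
  rw [← mul_assoc, ← pow_add] at hn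
  have hmem : t ^ (n + N) * a ∈ 𝒜 ((n + N + m) • e) := by
    rw [add_smul]; exact pow_mul_mem 𝒜 ht ha _
  rw [← mk_shift 𝒜 ht ha (n + N) hmem]
  exact mk_mem_K 𝒜 i ε ht he hn hmem

end Groth.L06.RelProjClosed
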