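import Groth.Agent.L18.ProjAlg.ClosedSubscheme

/-!
# Quotient of a graded algebra by a localizing family of homogeneous ideals
-/

set_option autoImplicit false

noncomputable section

universe u

open CategoryTheory CategoryTheory.Limits AlgebraicGeometry TopologicalSpace Opposite HomogeneousLocalization
open scoped HomogeneousIdeal

namespace Groth.L06.RelProjClosed

variable {S : Scheme.{u}}

/-- Homogeneous ideals over the affine opens, compatible with localization. -/
structure IdealFamily (𝒮 : RelProj.QCGrAlg S) where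
  id : ∀ (U : S.Opens), IsAffineOpen U → Ideal (𝒮.presheaf.obj (op U))
  hom : ∀ (U : S.Opens) (hU : IsAffineOpen U) (x : 𝒮.presheaf.obj (op U)), x ∈ id U hU → ∀ d,
    (DirectSum.decompose (𝒮.deg U hU) x d : 𝒮.presheaf.obj (op U)) ∈ id U hU
  res : ∀ {U V : S.Opens} (hU : IsAffineOpen U) (hV : IsAffineOpen V) (j : V ≤ U)
    {x : 𝒮.presheaf.obj (op U)}, x ∈ id U hU → (𝒮.presheaf.map (homOfLE j).op).hom x ∈ id V hV
  pow : ∀ (U : S.Opens) (hU : IsAffineOpen U) (r : Γ(S, U)) (x : 𝒮.presheaf.obj (op U)),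
    (𝒮.presheaf.map (homOfLE (S.basicOpen_le r)).op).hom x ∈ id (S.basicOpen r) (hU.basicOpen r) →
      ∃ N, (𝒮.str.app (op U)).hom r ^ N * x ∈ id U hU

variable {𝒮 : RelProj.QCGrAlg S} (F : IdealFamily 𝒮)

/-- The quotient values. -/
def IdealFamily.qData : Groth.L18.AlgExt.Data S where
  obj U hU := CommRingCat.of (𝒮.presheaf.obj (op U) ⧸ F.id U hU)
  res {U V} hU hV h := CommRingCat.ofHom (Ideal.quotientMap (F.id V hV)
    ((𝒮.presheaf.map (homOfLE h).op).hom) (fun _ hx => F.res hU hV h hx))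
  res_id {U} hU := by
    refine CommRingCat.hom_ext (Ideal.Quotient.ringHom_ext (RingHom.ext fun a => ?_))
    show Ideal.Quotient.mk _ ((𝒮.presheaf.map (𝟙 _)).hom a) = _
    rw [CategoryTheory.Functor.map_id]
    rfl
  res_comp {U V W} hU hV hW h h' := by
    refine CommRingCat.hom_ext (Ideal.Quotient.ringHom_ext (RingHom.ext fun a => ?_))
    show Ideal.Quotient.mk _ ((𝒮.presheaf.map (homOfLE h').op).hom ((𝒮.presheaf.map (homOfLE h).op).hom a)) =
      Ideal.Quotient.mk _ ((𝒮.presheaf.map (homOfLE (h'.trans h)).op).hom a)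
    exact congrArg _ (ConcreteCategory.congr_hom (𝒮.presheaf.map_comp (homOfLE h).op (homOfLE h').op) a).symm
  str U hU := CommRingCat.ofHom ((Ideal.Quotient.mk (F.id U hU)).comp (𝒮.str.app (op U)).hom)
  str_res {U V} hU hV h := by
    refine CommRingCat.hom_ext (RingHom.ext fun a => ?_)
    show Ideal.Quotient.mk _ ((𝒮.presheaf.map (homOfLE h).op).hom ((𝒮.str.app (op U)).hom a)) =
      Ideal.Quotient.mk _ ((𝒮.str.app (op V)).hom _)
    exact congrArg _ (ConcreteCategory.congr_hom (𝒮.str.naturality (homOfLE h).op) a).symm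
  isLoc U hU r := by
    let j := S.basicOpen_le r
    let ρ : 𝒮.presheaf.obj (op U) →+* 𝒮.presheaf.obj (op (S.basicOpen r)) := (𝒮.presheaf.map (homOfLE j).op).hom
    let c := (𝒮.str.app (op U)).hom r
    let I₀ := F.id U hU
    let I₁ := F.id (S.basicOpen r) (hU.basicOpen r)
    letI alg0 : Algebra (𝒮.presheaf.obj (op U)) (𝒮.presheaf.obj (op (S.basicOpen r))) := ρ.toAlgebra
    haveI : IsLocalization.Away c (𝒮.presheaf.obj (op (S.basicOpen r))) := 𝒮.isQC U hU r
    let ψ : 𝒮.presheaf.obj (op U) ⧸ I₀ →+* 𝒮.presheaf.obj (op (S.basicOpen r)) ⧸ I₁ :=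
      Ideal.quotientMap I₁ ρ (fun _ hx => F.res hU (hU.basicOpen r) j hx)
    letI := ψ.toAlgebra
    show IsLocalization.Away (Ideal.Quotient.mk I₀ c) (𝒮.presheaf.obj (op (S.basicOpen r)) ⧸ I₁)
    refine (isLocalization_iff (M := Submonoid.powers (Ideal.Quotient.mk I₀ c))
      (S := 𝒮.presheaf.obj (op (S.basicOpen r)) ⧸ I₁)).mpr ⟨?_, ?_, ?_⟩
    · rintro ⟨_, n, rfl⟩
      show IsUnit (ψ (Ideal.Quotient.mk I₀ c ^ n))
      rw [map_pow]
      refine IsUnit.pow n ?_
      show IsUnit (Ideal.Quotient.mk I₁ (ρ c))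
      exact (IsLocalization.Away.algebraMap_isUnit (S := 𝒮.presheaf.obj (op (S.basicOpen r))) c).map _
    · intro y
      obtain ⟨z, rfl⟩ := Ideal.Quotient.mk_surjective y
      obtain ⟨⟨a, _, n, rfl⟩, he⟩ := IsLocalization.surj (Submonoid.powers c) z
      refine ⟨⟨Ideal.Quotient.mk I₀ a, ⟨_, n, rfl⟩⟩, ?_⟩
      show Ideal.Quotient.mk I₁ z * ψ (Ideal.Quotient.mk I₀ c ^ n) = ψ (Ideal.Quotient.mk I₀ a)
      rw [← map_pow]
      exact ((map_mul (Ideal.Quotient.mk I₁) z (ρ (c ^ n))).symm).trans (congrArg (Ideal.Quotient.mk I₁) he)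
    · intro x y hxy
      obtain ⟨a, rfl⟩ := Ideal.Quotient.mk_surjective x
      obtain ⟨b, rfl⟩ := Ideal.Quotient.mk_surjective y
      have h1 : ρ (a - b) ∈ I₁ := by
        rw [map_sub]
        exact (Ideal.Quotient.eq).1 hxy
      obtain ⟨N, hN⟩ := F.pow U hU r _ h1
      refine ⟨⟨_, N, rfl⟩, ?_⟩
      show Ideal.Quotient.mk I₀ c ^ N * Ideal.Quotient.mk I₀ a = Ideal.Quotient.mk I₀ c ^ N * Ideal.Quotient.mk I₀ b
      rw [← map_pow, ← map_mul, ← map_mul, Ideal.Quotient.eq, ← mul_sub]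
      exact hN

/-- The quotient algebra. -/
def IdealFamily.qAlg : RelSpec.QCAlg S := F.qData.alg

/-- The quotient map on an affine open. -/
def IdealFamily.qπ (U : S.Opens) (hU : IsAffineOpen U) : 𝒮.presheaf.obj (op U) →+* F.qAlg.presheaf.obj (op U) :=
  (F.qData.evEquiv U hU).symm.toRingHom.comp (Ideal.Quotient.mk (F.id U hU))

theorem IdealFamily.qπ_surjective (U : S.Opens) (hU : IsAffineOpen U) : Function.Surjective (F.qπ U hU) := fun y => by
  obtain ⟨a, ha⟩ := Ideal.Quotient.mk_surjective (F.qData.evEquiv U hU y)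
  refine ⟨a, ?_⟩
  show (F.qData.evEquiv U hU).symm (Ideal.Quotient.mk (F.id U hU) a) = y
  exact (F.qData.evEquiv U hU).injective (((F.qData.evEquiv U hU).apply_symm_apply _).trans ha)

theorem IdealFamily.qπ_eq_zero {U : S.Opens} (hU : IsAffineOpen U) (x : 𝒮.presheaf.obj (op U)) :
    F.qπ U hU x = 0 ↔ x ∈ F.id U hU := by
  show (F.qData.evEquiv U hU).symm (Ideal.Quotient.mk (F.id U hU) x) = 0 ↔ _
  exact (EquivLike.injective (F.qData.evEquiv U hU).symm |> fun h => (map_eq_zero_iff _ h)).trans Ideal.Quotient.eq_zero_iff_mem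

theorem IdealFamily.qπ_res {U V : S.Opens} (hU : IsAffineOpen U) (hV : IsAffineOpen V) (h : V ≤ U) (x : 𝒮.presheaf.obj (op U)) :
    (F.qAlg.presheaf.map (homOfLE h).op).hom (F.qπ U hU x) =
      F.qπ V hV ((𝒮.presheaf.map (homOfLE h).op).hom x) := by
  apply (F.qData.evEquiv V hV).injective
  refine Eq.trans ?_ ((F.qData.evEquiv V hV).apply_symm_apply _).symm
  refine (F.qData.ev_res hU hV h _).trans ?_
  refine (congrArg (F.qData.res hU hV h).hom
    ((F.qData.evEquiv U hU).apply_symm_apply _)).trans ?_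
  rfl

theorem IdealFamily.qπ_str {U : S.Opens} (hU : IsAffineOpen U) (a : Γ(S, U)) :
    F.qπ U hU ((𝒮.str.app (op U)).hom a) = (F.qAlg.str.app (op U)).hom a := by
  apply (F.qData.evEquiv U hU).injective
  refine ((F.qData.evEquiv U hU).apply_symm_apply _).trans ?_
  exact (ConcreteCategory.congr_hom (F.qData.str_ev U hU) a).symm

/-- The quotient map on all opens. -/
def IdealFamily.qHomPre : 𝒮.presheaf ⟶ F.qAlg.presheaf :=
  Functor.IsCoverDense.restrictHomEquivHom (G := Scheme.AffineZariskiSite.toOpensFunctor S)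
    (K := Opens.grothendieckTopology S) (ℱ := 𝒮.presheaf)
    (ℱ' := (⟨F.qAlg.presheaf, F.qAlg.isSheaf⟩ : TopCat.Sheaf CommRingCat.{u} S.carrier))
    { app := fun U => CommRingCat.ofHom (F.qπ U.unop.1 U.unop.2)
      naturality := fun U V f => CommRingCat.hom_ext (RingHom.ext fun x =>
        (F.qπ_res U.unop.2 V.unop.2 (Scheme.AffineZariskiSite.toOpens_mono f.unop.le) x).symm) }

theorem IdealFamily.qHomPre_app (U : S.Opens) (hU : IsAffineOpen U) :
    F.qHomPre.app (op U) = CommRingCat.ofHom (F.qπ U hU) :=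
  NatTrans.congr_app ((Functor.IsCoverDense.restrictHomEquivHom (G := Scheme.AffineZariskiSite.toOpensFunctor S)
    (K := Opens.grothendieckTopology S) (ℱ := 𝒮.presheaf)
    (ℱ' := (⟨F.qAlg.presheaf, F.qAlg.isSheaf⟩ : TopCat.Sheaf CommRingCat.{u} S.carrier))).symm_apply_apply
      { app := fun U => CommRingCat.ofHom (F.qπ U.unop.1 U.unop.2)
        naturality := fun U V f => CommRingCat.hom_ext (RingHom.ext fun x =>
          (F.qπ_res U.unop.2 V.unop.2 (Scheme.AffineZariskiSite.toOpens_mono f.unop.le) x).symm) })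
    (op (⟨U, hU⟩ : S.AffineZariskiSite))

/-- The quotient graded algebra. -/
def IdealFamily.qGr : RelProj.QCGrAlg S where
  toQCAlg := F.qAlg
  deg U hU d := AddSubgroup.map (F.qπ U hU).toAddMonoidHom (𝒮.deg U hU d)
  graded U hU := (Groth.L18.VanishI.nonempty_gradedRing_map (𝒮.deg U hU) (F.qπ U hU) (F.qπ_surjective U hU)
    (fun x hx d => (F.qπ_eq_zero hU _).2 (F.hom U hU x ((F.qπ_eq_zero hU x).1 hx) d)) _
    (fun _ _ => Iff.rfl)).some
  map_mem {U V} hU hV h d y hy := by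
    obtain ⟨x, hx, rfl⟩ := hy
    exact ⟨_, 𝒮.map_mem hU hV h hx, (F.qπ_res hU hV h x).symm⟩
  str_mem U hU a := ⟨_, 𝒮.str_mem U hU a, F.qπ_str hU a⟩

/-- The quotient homomorphism. -/
def IdealFamily.qHom : 𝒮.toQCAlg ⟶ F.qGr.toQCAlg :=
  ⟨F.qHomPre, by
    apply (Functor.IsCoverDense.restrictHomEquivHom (G := Scheme.AffineZariskiSite.toOpensFunctor S)
      (K := Opens.grothendieckTopology S) (ℱ := S.presheaf)
      (ℱ' := (⟨F.qAlg.presheaf, F.qAlg.isSheaf⟩ : TopCat.Sheaf CommRingCat.{u} S.carrier))).symm.injective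
    ext U : 2
    change 𝒮.str.app (op U.unop.1) ≫ F.qHomPre.app (op U.unop.1) = F.qAlg.str.app (op U.unop.1)
    rw [F.qHomPre_app U.unop.1 U.unop.2]
    exact CommRingCat.hom_ext (RingHom.ext fun a => F.qπ_str U.unop.2 a)⟩

theorem IdealFamily.qHom_app {U : S.Opens} (hU : IsAffineOpen U) (x : 𝒮.presheaf.obj (op U)) :
    (F.qHom.hom.app (op U)).hom x = F.qπ U hU x :=
  ConcreteCategory.congr_hom (F.qHomPre_app U hU) x

theorem IdealFamily.qHom_isGraded : RelProj.IsGradedHom F.qHom := fun U hU _ x hx =>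
  ⟨x, hx, (F.qHom_app hU x).symm⟩

end Groth.L06.RelProjClosed
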