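import Groth.Agent.L06.RelProjClosed.Rel
import Groth.Agent.L06.RelProjClosed.Quot
import Groth.Agent.L18.QMap.Props
import Groth.Agent.S12165

/-!
# Closed subschemes of relative `Proj` are relative `Proj` of quotients
-/

set_option autoImplicit false

noncomputable section

universe u

open CategoryTheory CategoryTheory.Limits AlgebraicGeometry TopologicalSpace Opposite HomogeneousLocalization
open scoped HomogeneousIdeal

namespace Groth.L06.RelProjClosed

open Groth.L18

variable {S P Z : Scheme.{u}} {𝒮 : RelProj.QCGrAlg S} {p : P ⟶ S}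
  {chart : ∀ (U : S.Opens) (hU : IsAffineOpen U), (((p ⁻¹ᵁ U : P.Opens) : Scheme.{u}) ≅ Proj (𝒮.deg U hU))}

theorem exists_notMem_of_isFrames {A σ : Type u} [CommRing A] [SetLike σ A] [AddSubgroupClass σ A] {𝒜 : ℕ → σ}
    [GradedRing 𝒜] {T : Finset A} (hT : IsFrames 𝒜 T) (y : ProjectiveSpectrum 𝒜) :
    ∃ t ∈ T, t ∉ y.asHomogeneousIdeal := by
  by_contra h
  push Not at h
  refine y.not_irrelevant_le ?_
  exact hT.2.trans ((Ideal.radical_mono (Ideal.span_le.mpr h)).trans (y.isPrime.radical).le)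

variable (i : Z ⟶ P) [IsClosedImmersion i] (hP : RelProj.IsRelProj 𝒮 p chart) (F : IdealFamily 𝒮)

include hP in
/-- If the family cuts out `Z` on a cover by standard charts then `Proj` of the quotient is `Z`. -/
theorem exists_iso
    (hchar : ∀ x : P, ∃ (U : S.Opens) (hU : IsAffineOpen U) (e : ℕ) (t : 𝒮.presheaf.obj (op U))
      (ht : t ∈ 𝒮.deg U hU e) (he : 0 < e),
      x ∈ (chartAt (𝒮.deg U hU) (RelProj.emb p chart U hU) ht he).opensRange ∧
      ∀ (m : ℕ) (a : 𝒮.presheaf.obj (op U)) (ha : a ∈ 𝒮.deg U hU (m • e)),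
        (∃ N, t ^ N * a ∈ F.id U hU) ↔
          Away.mk (𝒮.deg U hU) ht m a ha ∈ K (𝒮.deg U hU) i (RelProj.emb p chart U hU) ht he) :
    ∃ (PB : Scheme.{u}) (pB : PB ⟶ S)
      (chartB : ∀ (U : S.Opens) (hU : IsAffineOpen U), ((pB ⁻¹ᵁ U : PB.Opens) : Scheme.{u}) ≅ Proj (F.qGr.deg U hU))
      (h : PB ⟶ P) (e : PB ≅ Z),
      RelProj.IsRelProj F.qGr pB chartB ∧
        RelProj.IsProjQMap (RelProj.QGrHom.ofHom F.qHom F.qHom_isGraded) p chart pB chartB h ∧
        e.hom ≫ i = h := by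
  classical
  obtain ⟨PB, pB, chartB, hB⟩ := Groth.L18.RP.exists_isRelProj F.qGr
  have hTN : ∃ n : ℕ, ∀ k, n ≤ k → ∀ (U : S.Opens) (hU : IsAffineOpen U), ∀ y ∈ F.qGr.deg U hU k,
      ∃ x ∈ 𝒮.deg U hU k, (F.qHom.hom.app (op U)).hom x = y :=
    ⟨0, fun k _ U hU y ⟨x, hx, hxy⟩ => ⟨x, hx, (F.qHom_app hU x).trans hxy⟩⟩
  obtain ⟨htop, hcl⟩ := Groth.Agent.S12165.result 𝒮 F.qGr F.qHom F.qHom_isGraded hTN p chart hP pB chartB hB
  obtain ⟨h, hh, -⟩ := QMap.existsUnique_isProjQMap (RelProj.QGrHom.ofHom F.qHom F.qHom_isGraded) hP hB htop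
  haveI hcl' : IsClosedImmersion h := hcl h hh
  have hbase : h ≫ p = pB := (QMap.isProjQMap_comp_base _ hP hB hh).trans (Category.comp_id pB)
  choose U hU d t ht hd hxU hch using hchar
  have hker : i.ker = h.ker := by
    refine PointKer.ker_eq_of_cover i h
      (fun x : P => CommRingCat.of (Away (𝒮.deg (U x) (hU x)) (t x)))
      (fun x => chartAt (𝒮.deg (U x) (hU x)) (RelProj.emb p chart (U x) (hU x)) (ht x) (hd x))
      (fun x => ⟨x, hxU x⟩) fun x => ?_
    let φ := RelProj.gradedHomAt F.qHom F.qHom_isGraded (U x) (hU x)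
    have hφ : ∀ z, φ z = F.qπ (U x) (hU x) z := fun z => F.qHom_app (hU x) z
    have hsurj : Function.Surjective φ := fun y => by
      obtain ⟨z, hz⟩ := F.qπ_surjective (U x) (hU x) y
      exact ⟨z, (hφ z).trans hz⟩
    have hirr : (F.qGr.deg (U x) (hU x))₊ ≤ ((𝒮.deg (U x) (hU x))₊).map φ := by
      rw [HomogeneousIdeal.irrelevant_le]
      rintro k hk _ ⟨z, hz, rfl⟩
      exact Eq.mp (congrArg (· ∈ _) (hφ z))
        (Ideal.mem_map_of_mem φ (HomogeneousIdeal.mem_irrelevant_of_mem _ hk hz))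
    have hcomm : RelProj.emb pB chartB (U x) (hU x) ≫ h = Proj.map φ hirr ≫ RelProj.emb p chart (U x) (hU x) := by
      refine (Proj.mapAffineOpenCover φ hirr).openCover.hom_ext _ _ fun k => ?_
      obtain ⟨e, f, hf⟩ := k
      let ψ := (RelProj.QGrHom.ofHom F.qHom F.qHom_isGraded).gradedAt (U x) (hU x) (U x) (hU x) le_rfl
      have hψ : ψ = φ := by
        refine DFunLike.ext _ _ fun z => ?_
        show (F.qGr.presheaf.map (homOfLE _).op).hom ((F.qHom.hom.app (op (U x))).hom z) = _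
        rw [Subsingleton.elim (homOfLE _) (𝟙 (U x)), op_id, CategoryTheory.Functor.map_id]
        rfl
      have key : ∀ (ψ' : 𝒮.deg (U x) (hU x) →+*ᵍ F.qGr.deg (U x) (hU x)),
          (Proj.awayι _ (ψ' f) (ψ'.2 hf) e.pos ≫ RelProj.emb pB chartB (U x) (hU x)) ≫ h =
            Spec.map (CommRingCat.ofHom (Away.map ψ' f)) ≫
              Proj.awayι (𝒮.deg (U x) (hU x)) f hf e.pos ≫ RelProj.emb p chart (U x) (hU x) →
          ψ' = φ → Proj.awayι _ (φ f) (φ.2 hf) e.pos ≫ RelProj.emb pB chartB (U x) (hU x) ≫ h =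
            Proj.awayι _ (φ f) (φ.2 hf) e.pos ≫ Proj.map φ hirr ≫ RelProj.emb p chart (U x) (hU x) := by
        rintro ψ' h1 rfl
        rw [← Category.assoc, h1]
        exact (Proj.awayι_comp_map_assoc _ _ e.pos f hf _).symm
      exact key ψ (hh.2 (U x) (hU x) (U x) (hU x) le_rfl e e.pos f hf) hψ
    have hsq : IsPullback (RelProj.emb pB chartB (U x) (hU x)) (Proj.map φ hirr) h
        (RelProj.emb p chart (U x) (hU x)) := by
      refine (IsOpenImmersion.isPullback (Proj.map φ hirr) (RelProj.emb pB chartB (U x) (hU x))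
        (RelProj.emb p chart (U x) (hU x)) h hcomm ?_).flip
      rw [Groth.L18.RP.opensRange_emb, Groth.L18.RP.opensRange_emb, ← Scheme.Hom.comp_preimage, hbase]
    have hpb := (Groth.L18.RPLoc.isPullback_awayι φ hirr (hd x) (t x) (ht x)).flip.paste_horiz hsq
    refine SetLike.ext fun q => ?_
    refine Iff.trans ?_ (show Away.map φ (t x) q = 0 ↔ _ from ⟨fun hq C a g hg => ?_, fun hq =>
      hq _ (CommRingCat.ofHom (Away.map φ (t x))) _ hpb.w⟩)
    · obtain ⟨m, a, ha, rfl⟩ := Away.mk_surjective (𝒮.deg (U x) (hU x)) (ht x) q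
      refine (hch x m a ha).symm.trans ?_
      rw [Away.map_mk]
      constructor
      · rintro ⟨N, hN⟩
        have h0 : φ (t x) ^ N * φ a = 0 := by
          rw [← map_pow, ← map_mul, hφ]
          exact (F.qπ_eq_zero (hU x) _).2 hN
        apply val_injective
        rw [Away.val_mk, val_zero, ← Localization.mk_zero (1 : Submonoid.powers (φ (t x))), Localization.mk_eq_mk_iff,
          Localization.r_iff_exists]
        refine ⟨⟨φ (t x) ^ N, N, rfl⟩, ?_⟩
        simp only [OneMemClass.coe_one, one_mul, mul_zero]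
        exact h0
      · intro hq
        have hv := congrArg HomogeneousLocalization.val hq
        rw [Away.val_mk, val_zero, ← Localization.mk_zero (1 : Submonoid.powers (φ (t x))),
          Localization.mk_eq_mk_iff, Localization.r_iff_exists] at hv
        obtain ⟨⟨_, M, rfl⟩, hM⟩ := hv
        simp only [OneMemClass.coe_one, one_mul, mul_zero] at hM
        refine ⟨M, (F.qπ_eq_zero (hU x) _).1 ?_⟩
        rw [← hφ, map_mul, map_pow]
        exact hM
    · obtain ⟨b, hb⟩ : ∃ b, Spec.map b = hpb.lift g (Spec.map a) hg := Spec.map_surjective _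
      have h2 : Spec.map b ≫ Spec.map (CommRingCat.ofHom (Away.map φ (t x))) = Spec.map a := by
        rw [hb]; exact hpb.lift_snd _ _ hg
      have hab := Spec.map_injective ((Spec.map_comp _ b).trans h2)
      have h3 : b.hom (Away.map φ (t x) q) = a.hom q := ConcreteCategory.congr_hom hab q
      rw [← h3, hq, map_zero]
  haveI := IsClosedImmersion.isIso_lift h i hker.symm
  refine ⟨PB, pB, chartB, h, (asIso (IsClosedImmersion.lift h i hker.ge)).symm, hB, hh, ?_⟩
  rw [Iso.symm_hom, asIso_inv, IsIso.inv_comp_eq]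
  exact (IsClosedImmersion.lift_fac _ _ _).symm

variable [QuasiCompact p]

/-- The family of ideals vanishing on `Z`. -/
def vanishFamily : IdealFamily 𝒮 where
  id := I chart i
  hom U hU x hx d := decompose_mem_vanish _ i _ hx d
  res hU hV j := res_mem_I i hP (exists_frames chart) hU hV j
  pow U hU r x := exists_pow_mem_I i hP hU (exists_frames chart U hU) r

theorem vanishFamily_char (x : P) : ∃ (U : S.Opens) (hU : IsAffineOpen U) (e : ℕ) (t : 𝒮.presheaf.obj (op U))
      (ht : t ∈ 𝒮.deg U hU e) (he : 0 < e),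
      x ∈ (chartAt (𝒮.deg U hU) (RelProj.emb p chart U hU) ht he).opensRange ∧
      ∀ (m : ℕ) (a : 𝒮.presheaf.obj (op U)) (ha : a ∈ 𝒮.deg U hU (m • e)),
        (∃ N, t ^ N * a ∈ (vanishFamily i hP).id U hU) ↔
          Away.mk (𝒮.deg U hU) ht m a ha ∈ K (𝒮.deg U hU) i (RelProj.emb p chart U hU) ht he := by
  obtain ⟨_, ⟨U, hU', rfl⟩, hxU, -⟩ :=
    S.isBasis_affineOpens.exists_subset_of_mem_open (Set.mem_univ (p x)) isOpen_univ
  have hU : IsAffineOpen U := hU'
  obtain ⟨v, rfl⟩ := (Groth.L18.RP.opensRange_emb (chart := chart) U hU).ge hxU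
  obtain ⟨T, hT⟩ := exists_frames chart U hU
  obtain ⟨t, htT, htv⟩ := exists_notMem_of_isFrames (𝒜 := 𝒮.deg U hU) hT v
  obtain ⟨e, he, ht⟩ := hT.1 t htT
  refine ⟨U, hU, e, t, ht, he, ?_, fun m a ha => ⟨fun ⟨N, hN⟩ => mk_mem_K_of_mem_vanish _ i _ ht he ha hN,
    fun h => exists_pow_mul_mem_vanish i _ hT ht he ha h⟩⟩
  obtain ⟨w, hw⟩ := (Proj.opensRange_awayι (𝒮.deg U hU) t ht he).ge ((Proj.mem_basicOpen _ _ _).2 htv)
  refine ⟨w, ?_⟩
  show (Proj.awayι (𝒮.deg U hU) t ht he ≫ RelProj.emb p chart U hU).base w = _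
  rw [Scheme.Hom.comp_apply, hw]

end Groth.L06.RelProjClosed
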