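import Groth.Agent.L06.RelProjClosed.Ideal
import Groth.Agent.L18.RelProj.BasicOpen
import Groth.Agent.L18.RelProj.Localization
import Groth.Agent.L18.RelProj.Props

/-!
# The ideal of a closed subscheme of a quasi-compact relative `Proj` localizes
-/

set_option autoImplicit false

noncomputable section

universe u

open CategoryTheory CategoryTheory.Limits AlgebraicGeometry TopologicalSpace Opposite HomogeneousLocalization
open scoped HomogeneousIdeal

namespace Groth.L06.RelProjClosed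

open Groth.L18

theorem exists_isFrames {A σ : Type u} [CommRing A] [SetLike σ A] [AddSubgroupClass σ A] (𝒜 : ℕ → σ)
    [GradedRing 𝒜] [CompactSpace (Proj 𝒜)] : ∃ T : Finset A, IsFrames 𝒜 T := by
  classical
  let ι := {a : A // ∃ e, 0 < e ∧ a ∈ 𝒜 e}
  obtain ⟨s, hs⟩ := isCompact_univ.elim_finite_subcover (fun a : ι => (Proj.basicOpen 𝒜 a.1 : Set (Proj 𝒜)))
    (fun a => (Proj.basicOpen 𝒜 a.1).isOpen) (fun y _ => by
      by_contra hne
      simp only [Set.mem_iUnion, SetLike.mem_coe, Proj.mem_basicOpen, not_exists, not_not] at hne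
      refine y.not_irrelevant_le ?_
      rw [HomogeneousIdeal.irrelevant_le]
      intro e he a ha
      exact hne ⟨a, e, he, ha⟩)
  refine ⟨s.image Subtype.val, fun t ht => ?_, ?_⟩
  · obtain ⟨a, -, rfl⟩ := Finset.mem_image.1 ht
    exact a.2
  · have hI : (Ideal.span ((s.image Subtype.val : Finset A) : Set A)).IsHomogeneous 𝒜 :=
      Ideal.homogeneous_span 𝒜 _ fun t ht => by
        obtain ⟨a, -, rfl⟩ := Finset.mem_image.1 (Finset.mem_coe.1 ht)
        exact ⟨_, a.2.choose_spec.2⟩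
    rw [hI.radical_eq]
    refine le_sInf fun Q hQ => ?_
    obtain ⟨hQh, hsQ, hQp⟩ := hQ
    by_contra hQi
    obtain ⟨a, ha, hya⟩ := Set.mem_iUnion₂.1 (hs (Set.mem_univ (⟨⟨Q, hQh⟩, hQp, hQi⟩ : Proj 𝒜)))
    exact (Proj.mem_basicOpen _ _ _).1 hya (hsQ (Ideal.subset_span (Finset.mem_image_of_mem _ ha)))

variable {S P Z : Scheme.{u}} {𝒮 : RelProj.QCGrAlg S} {p : P ⟶ S}
  {chart : ∀ (U : S.Opens) (hU : IsAffineOpen U), (((p ⁻¹ᵁ U : P.Opens) : Scheme.{u}) ≅ Proj (𝒮.deg U hU))}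

variable (chart) in
/-- The ideal of `Z` over an affine open. -/
def I (i : Z ⟶ P) (U : S.Opens) (hU : IsAffineOpen U) : Ideal (𝒮.presheaf.obj (op U)) :=
  vanish (𝒮.deg U hU) i (RelProj.emb p chart U hU)

theorem exists_frames [QuasiCompact p]
    (chart : ∀ (U : S.Opens) (hU : IsAffineOpen U), (((p ⁻¹ᵁ U : P.Opens) : Scheme.{u}) ≅ Proj (𝒮.deg U hU)))
    (U : S.Opens) (hU : IsAffineOpen U) : ∃ T, IsFrames (𝒮.deg U hU) T := by
  haveI : CompactSpace (p ⁻¹ᵁ U : P.Opens) :=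
    isCompact_iff_compactSpace.1 (p.isCompact_preimage hU.isCompact)
  haveI : CompactSpace (Proj (𝒮.deg U hU)) :=
    (Scheme.Hom.homeomorph (chart U hU).hom).compactSpace
  exact exists_isFrames _

variable (i : Z ⟶ P) [IsAffineHom i] (hP : RelProj.IsRelProj 𝒮 p chart)

include hP in
omit [IsAffineHom i] in
theorem chartAt_basic {U W : S.Opens} (hU : IsAffineOpen U) (hW : IsAffineOpen W) (j : W ≤ U)
    (hr : ∃ r : Γ(S, U), S.basicOpen r = W) {e : ℕ} {t : 𝒮.presheaf.obj (op U)} (ht : t ∈ 𝒮.deg U hU e)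
    (he : 0 < e) :
    chartAt (𝒮.deg W hW) (RelProj.emb p chart W hW) ((𝒮.res hU hW j).2 ht) he =
      Spec.map (CommRingCat.ofHom (Away.map (𝒮.res hU hW j) t)) ≫
        chartAt (𝒮.deg U hU) (RelProj.emb p chart U hU) ht he := by
  obtain ⟨r, rfl⟩ := hr
  show Proj.awayι _ _ _ _ ≫ _ = _
  rw [← RelProj.map_res_emb hP U hU r]
  exact Proj.awayι_comp_map_assoc _ _ he t ht _

include hP in
omit [IsAffineHom i] in
theorem map_J_le {U W : S.Opens} (hU : IsAffineOpen U) (hW : IsAffineOpen W) (j : W ≤ U)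
    (hr : ∃ r : Γ(S, U), S.basicOpen r = W) {e : ℕ} {t : 𝒮.presheaf.obj (op U)} (ht : t ∈ 𝒮.deg U hU e)
    (he : 0 < e) :
    (J (𝒮.deg U hU) i (RelProj.emb p chart U hU) ht he).map (𝒮.res hU hW j) ≤
      J (𝒮.deg W hW) i (RelProj.emb p chart W hW) ((𝒮.res hU hW j).2 ht) he := by
  rw [J, Ideal.map_span, Ideal.span_le]
  rintro _ ⟨a, ⟨m, ha, haK⟩, rfl⟩
  refine Ideal.subset_span ⟨m, (𝒮.res hU hW j).2 ha, ?_⟩
  have h := PointKer.map_mem (CommRingCat.ofHom (Away.map (𝒮.res hU hW j) t))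
    (chartAt_basic hP hU hW j hr ht he) haK
  rw [CommRingCat.hom_ofHom, Away.map_mk] at h
  exact h

include hP in
/-- On a basic open the local ideal is the localization. -/
theorem J_le_map {U : S.Opens} (hU : IsAffineOpen U) (r : Γ(S, U)) {e : ℕ} {t : 𝒮.presheaf.obj (op U)}
    (ht : t ∈ 𝒮.deg U hU e) (he : 0 < e) :
    J (𝒮.deg (S.basicOpen r) (hU.basicOpen r)) i (RelProj.emb p chart _ (hU.basicOpen r))
        ((𝒮.res hU (hU.basicOpen r) (S.basicOpen_le r)).2 ht) he ≤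
      (J (𝒮.deg U hU) i (RelProj.emb p chart U hU) ht he).map (𝒮.res hU (hU.basicOpen r) (S.basicOpen_le r)) := by
  classical
  set ρ := 𝒮.res hU (hU.basicOpen r) (S.basicOpen_le r) with hρ
  set c := (𝒮.str.app (op U)).hom r
  have hc : c ∈ 𝒮.deg U hU 0 := 𝒮.str_mem U hU r
  rw [J, Ideal.span_le]
  rintro b ⟨m, hb, hbK⟩
  letI := (𝒮.presheaf.map (homOfLE (S.basicOpen_le r)).op).hom.toAlgebra
  haveI hloc : IsLocalization.Away c (𝒮.presheaf.obj (op (S.basicOpen r))) := 𝒮.isQC U hU r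
  obtain ⟨⟨a, _, k, rfl⟩, hk⟩ := IsLocalization.surj (Submonoid.powers c) b
  have hk' : b * ρ (c ^ k) = ρ a := hk
  have hck : ρ (c ^ k) ∈ 𝒮.deg (S.basicOpen r) (hU.basicOpen r) (0 • e) := by
    rw [zero_smul]
    exact ρ.2 (by simpa using SetLike.pow_mem_graded k hc)
  have hbc : b * ρ (c ^ k) ∈ 𝒮.deg (S.basicOpen r) (hU.basicOpen r) ((m + 0) • e) := by
    rw [add_smul]; exact SetLike.mul_mem_graded hb hck
  let a₁ : 𝒮.presheaf.obj (op U) := DirectSum.decompose (𝒮.deg U hU) a (m • e)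
  have ha₁ : a₁ ∈ 𝒮.deg U hU (m • e) := SetLike.coe_mem _
  have hρa₁ : ρ a₁ = b * ρ (c ^ k) := by
    show ρ (DirectSum.decompose (𝒮.deg U hU) a (m • e) : _) = _
    rw [GradedRingHom.map_directSumDecompose, ← hk', DirectSum.decompose_of_mem_same _ (by simpa using hbc)]
  have hmem : Away.map ρ t (Away.mk _ ht m a₁ ha₁) ∈
      K (𝒮.deg (S.basicOpen r) (hU.basicOpen r)) i (RelProj.emb p chart _ (hU.basicOpen r)) (ρ.2 ht) he := by
    rw [Away.map_mk, mk_congr _ _ hρa₁ _ (by simpa using hbc)]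
    have := mk_mul (𝒮.deg (S.basicOpen r) (hU.basicOpen r)) (ρ.2 ht) hb hck hbc
    simp only [add_zero] at this
    rw [this]
    exact Ideal.mul_mem_right _ _ hbK
  obtain ⟨N, hN⟩ := PointKer.exists_pow_mul_mem (R' := CommRingCat.of (Away (𝒮.deg _ (hU.basicOpen r)) (ρ t)))
    (CommRingCat.ofHom (Away.map ρ t)) (chartAt_basic hP hU (hU.basicOpen r) (S.basicOpen_le r) ⟨r, rfl⟩ ht he) _
    (RPLoc.isLocalization_away_map ρ c hc hloc t ht) hmem
  have hcN : c ^ N * a₁ ∈ 𝒮.deg U hU (m • e) := by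
    simpa using SetLike.mul_mem_graded (SetLike.pow_mem_graded N hc) ha₁
  have hgen : c ^ N * a₁ ∈ J (𝒮.deg U hU) i (RelProj.emb p chart U hU) ht he := by
    refine Ideal.subset_span ⟨m, hcN, ?_⟩
    rw [← fromZero_pow_mul (𝒮.deg U hU) ht hc N ha₁ hcN]
    exact hN
  have hu : IsUnit (ρ (c ^ (N + k))) :=
    IsLocalization.map_units (M := Submonoid.powers c) (𝒮.presheaf.obj (op (S.basicOpen r))) ⟨c ^ (N + k), N + k, rfl⟩
  refine (Ideal.unit_mul_mem_iff_mem _ hu).1 ?_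
  have h1 := Ideal.mem_map_of_mem ρ hgen
  rw [map_mul, hρa₁] at h1
  rw [pow_add, map_mul, mul_assoc, mul_comm (ρ (c ^ k))]
  exact h1

include hP in
theorem res_mem_I_basic {U : S.Opens} (hU : IsAffineOpen U) (hT : ∃ T, IsFrames (𝒮.deg U hU) T) (r : Γ(S, U))
    {x : 𝒮.presheaf.obj (op U)} (hx : x ∈ I chart i U hU) :
    𝒮.res hU (hU.basicOpen r) (S.basicOpen_le r) x ∈ I chart i (S.basicOpen r) (hU.basicOpen r) := by
  classical
  obtain ⟨T, hT⟩ := hT
  set ρ := 𝒮.res hU (hU.basicOpen r) (S.basicOpen_le r) with hρ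
  refine mem_vanish_of_frames i _ (T := T.image ρ) ⟨fun t ht => ?_, ?_⟩ fun t ht e hte he => ?_
  · obtain ⟨v, hv, rfl⟩ := Finset.mem_image.1 ht
    obtain ⟨e, he, hve⟩ := hT.1 v hv
    exact ⟨e, he, ρ.2 hve⟩
  · rw [Finset.coe_image]
    refine le_trans ?_ ((Ideal.map_radical_le (f := (ρ : 𝒮.presheaf.obj (op U) →+* 𝒮.presheaf.obj (op (S.basicOpen r))))).trans (le_of_eq (by rw [Ideal.map_span]; rfl)))
    exact le_trans (𝒮.irrelevant_le_map U hU r) (Ideal.map_mono hT.2)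
  · obtain ⟨v, hv, rfl⟩ := Finset.mem_image.1 ht
    obtain ⟨e', he', hve⟩ := hT.1 v hv
    by_cases h0 : ρ v = 0
    · refine ⟨1, ?_⟩
      rw [show ρ v ^ 1 * ρ x = 0 by rw [pow_one, h0, zero_mul]]
      exact zero_mem _
    obtain rfl : e = e' := DirectSum.degree_eq_of_mem_mem _ hte (ρ.2 hve) h0
    obtain ⟨n, hn⟩ := hx e v hve he
    refine ⟨n, ?_⟩
    rw [← map_pow, ← map_mul]
    exact map_J_le i hP hU (hU.basicOpen r) (S.basicOpen_le r) ⟨r, rfl⟩ hve he (Ideal.mem_map_of_mem ρ hn)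

include hP in
theorem exists_pow_mem_I {U : S.Opens} (hU : IsAffineOpen U) (hT : ∃ T, IsFrames (𝒮.deg U hU) T) (r : Γ(S, U))
    {x : 𝒮.presheaf.obj (op U)}
    (h : 𝒮.res hU (hU.basicOpen r) (S.basicOpen_le r) x ∈ I chart i (S.basicOpen r) (hU.basicOpen r)) :
    ∃ N, (𝒮.str.app (op U)).hom r ^ N * x ∈ I chart i U hU := by
  classical
  obtain ⟨T, hT⟩ := hT
  set c := (𝒮.str.app (op U)).hom r
  set ρ := 𝒮.res hU (hU.basicOpen r) (S.basicOpen_le r) with hρ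
  letI := (𝒮.presheaf.map (homOfLE (S.basicOpen_le r)).op).hom.toAlgebra
  haveI : IsLocalization.Away c (𝒮.presheaf.obj (op (S.basicOpen r))) := 𝒮.isQC U hU r
  have hex : ∀ v : T, ∃ N, ∀ (e : ℕ) (hv : v.1 ∈ 𝒮.deg U hU e) (he : 0 < e),
      ∃ n, v.1 ^ n * (c ^ N * x) ∈ J (𝒮.deg U hU) i (RelProj.emb p chart U hU) hv he := by
    intro v
    obtain ⟨e₁, he₁, hv₁⟩ := hT.1 v v.2
    by_cases h0 : v.1 = 0
    · refine ⟨0, fun e hv he => ⟨1, ?_⟩⟩
      rw [show v.1 ^ 1 * (c ^ 0 * x) = 0 by rw [pow_one, h0, zero_mul]]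
      exact zero_mem _
    obtain ⟨n, hn⟩ := h e₁ (ρ v.1) (ρ.2 hv₁) he₁
    rw [← map_pow, ← map_mul] at hn
    have hn' := J_le_map i hP hU r hv₁ he₁ hn
    obtain ⟨_, ⟨N, rfl⟩, hN⟩ : ∃ s ∈ Submonoid.powers c, s * (v.1 ^ n * x) ∈
        J (𝒮.deg U hU) i (RelProj.emb p chart U hU) hv₁ he₁ :=
      (IsLocalization.algebraMap_mem_map_algebraMap_iff (Submonoid.powers c)
        (𝒮.presheaf.obj (op (S.basicOpen r))) _ _).1 hn' |> fun ⟨s, hs, hs'⟩ => ⟨s, hs, hs'⟩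
    refine ⟨N, fun e hv he => ⟨n, ?_⟩⟩
    obtain rfl : e = e₁ := DirectSum.degree_eq_of_mem_mem _ hv hv₁ h0
    rw [mul_left_comm]
    exact hN
  choose N hN using hex
  refine ⟨Finset.univ.sup N, mem_vanish_of_frames i _ hT fun v hv e hve he => ?_⟩
  obtain ⟨n, hn⟩ := hN ⟨v, hv⟩ e hve he
  refine ⟨n, ?_⟩
  rw [mul_left_comm] at hn ⊢
  exact pow_mul_mem_of_le hn (Finset.le_sup (f := N) (Finset.mem_univ _))

include hP in
theorem res_mem_I (hT : ∀ (U : S.Opens) (hU : IsAffineOpen U), ∃ T, IsFrames (𝒮.deg U hU) T)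
    {U V : S.Opens} (hU : IsAffineOpen U) (hV : IsAffineOpen V) (j : V ≤ U)
    {x : 𝒮.presheaf.obj (op U)} (hx : x ∈ I chart i U hU) : 𝒮.res hU hV j x ∈ I chart i V hV := by
  classical
  let L : Ideal Γ(S, V) := ((I chart i V hV).colon {𝒮.res hU hV j x}).comap (𝒮.str.app (op V)).hom
  suffices h : (1 : Γ(S, V)) ∈ L.radical by
    obtain ⟨n, hn⟩ := h
    rw [one_pow] at hn
    simpa [L, map_one] using Submodule.mem_colon_singleton.mp hn
  have htop : L.radical = ⊤ := by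
    rw [eq_top_iff, ← (hV.iSup_basicOpen_eq_self_iff (s := {s | ∃ r : Γ(S, U), S.basicOpen s = S.basicOpen r})).1
      (le_antisymm (iSup_le fun s => S.basicOpen_le _) fun y hy => ?_), Ideal.span_le]
    · rintro s ⟨r, e⟩
      have key : ∀ {W : S.Opens} (hW : IsAffineOpen W) (_ : S.basicOpen r = W) (k : W ≤ U),
          𝒮.res hU hW k x ∈ I chart i W hW := by
        intro W hW eW k; subst eW
        exact res_mem_I_basic i hP hU (hT U hU) r hx
      have hk : S.basicOpen s ≤ U := (S.basicOpen_le s).trans j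
      have h' : 𝒮.res hV (hV.basicOpen s) (S.basicOpen_le s) (𝒮.res hU hV j x) = 𝒮.res hU (hV.basicOpen s) hk x :=
        DFunLike.congr_fun (Groth.L18.RP.res_comp 𝒮 hU hV (hV.basicOpen s) j (S.basicOpen_le s)) x
      obtain ⟨N, hN⟩ := exists_pow_mem_I i hP hV (hT V hV) s (h' ▸ key (hV.basicOpen s) e.symm hk)
      refine ⟨N, Submodule.mem_colon_singleton.mpr ?_⟩
      rw [smul_eq_mul, map_pow]
      exact hN
    · obtain ⟨s, r, e, hys⟩ := exists_basicOpen_le_affine_inter hV hU y ⟨hy, j hy⟩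
      exact Opens.mem_iSup.mpr ⟨⟨s, r, e⟩, hys⟩
  rw [htop]
  trivial

end Groth.L06.RelProjClosed
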